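import Cfsg.Agent.Lib.Blocks.HallHigman
import Cfsg.Agent.Lib.Blocks.FongReduction
import Cfsg.Agent.Lib.Fusion.PSolvable
import Cfsg.Agent.Lib.Coprime

/-!
`p`-constraint: lifting centralisers through a normal `p'`-subgroup, cores of kernels.
-/

set_option autoImplicit false
set_option linter.unusedSectionVars false

namespace CfsgLib.PLocal

open CfsgLib Cfsg
open scoped Pointwise

universe u
variable {G : Type u} [Group G] [Finite G] {p : ℕ} [Fact p.Prime]

/-- Centralisers of `p`-groups lift through normal `p'`-subgroups. -/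
theorem centralizer_lift (N : Subgroup G) [N.Normal] (hN : (Nat.card N).Coprime p) {P : Subgroup G}
    (hP : IsPGroup p P) {x : G} (hx : ∀ a ∈ P, x * a * x⁻¹ * a⁻¹ ∈ N) :
    ∃ w ∈ N, x * w ∈ Subgroup.centralizer (P : Set G) := by
  have hNn : N.Normal := inferInstance
  obtain ⟨k, hk⟩ := IsPGroup.iff_card.1 hP
  have hcop : (Nat.card P).Coprime (Nat.card N) := by rw [hk]; exact hN.symm.pow_left k
  haveI : Group.IsNilpotent P := hP.isNilpotent
  obtain ⟨w, hw, hnorm⟩ := coprime_key_normalize (A := P) (W := N) hcop (Or.inl inferInstance)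
    (by rw [Subgroup.normalizer_eq_top]; exact le_top) (k := x) fun a ha => by
      have h1 : x⁻¹ * a * x * a⁻¹ ∈ N := by
        have := hNn.conj_mem _ (N.inv_mem (hx a ha)) x⁻¹
        simpa [mul_assoc] using this
      have h2 := Subgroup.mul_mem_sup h1 ha
      simpa [mul_assoc] using h2
  refine ⟨w, hw, fun a ha => ?_⟩
  have h1 : x * w * a * (x * w)⁻¹ * a⁻¹ ∈ N := by
    have h2 : w * a * w⁻¹ * a⁻¹ ∈ N := by
      have := N.mul_mem hw (hNn.conj_mem _ (N.inv_mem hw) a)
      simpa [mul_assoc] using this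
    have := N.mul_mem (hNn.conj_mem _ h2 x) (hx a ha)
    simpa [mul_assoc] using this
  have h3 := Subgroup.disjoint_def.1 (Subgroup.disjoint_of_coprime_natCard hcop)
    (P.mul_mem (hnorm a ha) (P.inv_mem ha)) h1
  rw [mul_inv_eq_one, mul_inv_eq_iff_eq_mul] at h3
  exact h3.symm

theorem map_centralizer_eq (N : Subgroup G) [N.Normal] (hN : (Nat.card N).Coprime p) {P : Subgroup G}
    (hP : IsPGroup p P) :
    (Subgroup.centralizer (P : Set G)).map (QuotientGroup.mk' N) =
      Subgroup.centralizer ((P.map (QuotientGroup.mk' N) : Subgroup (G ⧸ N)) : Set (G ⧸ N)) := by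
  refine le_antisymm ?_ fun y hy => ?_
  · rintro _ ⟨c, hc, rfl⟩ _ ⟨a, ha, rfl⟩
    rw [← map_mul, ← map_mul, hc a ha]
  · obtain ⟨x, rfl⟩ := QuotientGroup.mk'_surjective N y
    obtain ⟨w, hw, hc⟩ := centralizer_lift N hN hP (x := x) fun a ha => by
      rw [← QuotientGroup.eq_one_iff]
      show QuotientGroup.mk' N (x * a * x⁻¹ * a⁻¹) = 1
      rw [map_mul, map_mul, map_mul, map_inv, map_inv, ← hy _ ⟨a, ha, rfl⟩]
      group
    refine ⟨x * w, hc, ?_⟩
    rw [map_mul, show QuotientGroup.mk' N w = 1 from (QuotientGroup.eq_one_iff w).2 hw, mul_one]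

/-- The image of a Sylow subgroup of `O_{p',p}` is `O_p` of the quotient. -/
theorem map_sylow_pPrimePCore (P : Sylow p (pPrimePCore p G)) :
    ((P : Subgroup (pPrimePCore p G)).map (pPrimePCore p G).subtype).map (QuotientGroup.mk' (pPrimeCore p G)) =
      pCore p (G ⧸ pPrimeCore p G) := by
  set O := pCore p (G ⧸ pPrimeCore p G) with hO
  let f : pPrimePCore p G →* O :=
    ((QuotientGroup.mk' (pPrimeCore p G)).comp (pPrimePCore p G).subtype).codRestrict O fun x => x.2
  have hf : Function.Surjective f := by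
    rintro ⟨y, hy⟩
    obtain ⟨x, rfl⟩ := QuotientGroup.mk'_surjective (pPrimeCore p G) y
    exact ⟨⟨x, hy⟩, rfl⟩
  have htop : ((P.mapSurjective hf : Sylow p O) : Subgroup O) = ⊤ :=
    ((P.mapSurjective hf).is_maximal' ((CfsgLib.isPGroup_pCore p).of_equiv Subgroup.topEquiv.symm) le_top).symm
  have := congrArg (Subgroup.map O.subtype) htop
  rw [Sylow.coe_mapSurjective, Subgroup.map_map, ← MonoidHom.range_eq_map, Subgroup.range_subtype] at this
  rw [Subgroup.map_map]
  exact this

theorem isPConstrained_of_quotient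
    (h : Subgroup.centralizer (pCore p (G ⧸ pPrimeCore p G) : Set (G ⧸ pPrimeCore p G)) ≤
      pCore p (G ⧸ pPrimeCore p G)) : IsPConstrained p G := by
  intro P x hx
  show QuotientGroup.mk' (pPrimeCore p G) x ∈ pCore p (G ⧸ pPrimeCore p G)
  refine h fun y hy => ?_
  rw [SetLike.mem_coe, ← map_sylow_pPrimePCore P] at hy
  obtain ⟨a, ha, rfl⟩ := hy
  rw [← map_mul, ← map_mul, hx a ha]

/-- A `p`-solvable centraliser of `O_p` is contained in it. -/
theorem centralizer_pCore_le_of_isPSolvable {X : Type u} [Group X] [Finite X] (hO : pPrimeCore p X = ⊥)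
    (hs : IsPSolvable p (Subgroup.centralizer (pCore p X : Set X))) :
    Subgroup.centralizer (pCore p X : Set X) ≤ pCore p X := by
  set C := Subgroup.centralizer (pCore p X : Set X) with hC
  haveI : C.Normal := inferInstance
  have hmapn : ∀ M : Subgroup C, M.Characteristic → (M.map C.subtype).Normal := fun M hM =>
    ConjAct.normal_of_characteristic_of_normal
  have hOC : pPrimeCore p C = ⊥ := by
    haveI := hmapn (pPrimeCore p C) inferInstance
    have h1 : (pPrimeCore p C).map C.subtype ≤ pPrimeCore p X := CfsgLib.le_pPrimeCore (by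
      rw [Subgroup.card_map_of_injective C.subtype_injective]; exact CfsgLib.card_pPrimeCore_coprime p)
    rwa [hO, le_bot_iff, Subgroup.map_eq_bot_iff_of_injective _ C.subtype_injective] at h1
  have hhh := Blocks.hall_higman hs hOC
  haveI := hmapn (pCore p C) inferInstance
  have hP : (pCore p C).map C.subtype ≤ pCore p X := CfsgLib.le_pCore ((CfsgLib.isPGroup_pCore p).map _)
  intro c hc
  refine hP ⟨⟨c, hc⟩, hhh fun d hd => Subtype.ext ?_, rfl⟩
  exact hc _ (hP ⟨d, hd, rfl⟩)

/-- `O_{p'}` of a quotient by a preimage of `O_{p'}` is trivial. -/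
theorem pPrimeCore_quotient_comap_eq_bot (U : Subgroup G) [U.Normal] {M : Subgroup G} [M.Normal]
    (hM : M = (pPrimeCore p (G ⧸ U)).comap (QuotientGroup.mk' U)) : pPrimeCore p (G ⧸ M) = ⊥ := by
  have hUM : U ≤ M := fun x hx => by
    rw [hM, Subgroup.mem_comap, QuotientGroup.mk'_apply, (QuotientGroup.eq_one_iff x).2 hx]; exact one_mem _
  set φ : G ⧸ U →* G ⧸ M := QuotientGroup.map U M (MonoidHom.id G) hUM with hφ
  have hker : φ.ker = pPrimeCore p (G ⧸ U) := by
    ext y
    obtain ⟨g, rfl⟩ := QuotientGroup.mk_surjective y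
    show ((g : G ⧸ M) = 1) ↔ _
    rw [QuotientGroup.eq_one_iff, hM]
    rfl
  have hsurj : Function.Surjective φ := fun y => by
    obtain ⟨g, rfl⟩ := QuotientGroup.mk_surjective y; exact ⟨g, rfl⟩
  set T := pPrimeCore p (G ⧸ M)
  haveI : (T.comap φ).Normal := Subgroup.normal_comap φ
  have hle : φ.ker ≤ T.comap φ := fun y hy => by
    show φ y ∈ T
    rw [show φ y = 1 from hy]; exact one_mem _
  have hcard : Nat.card (T.comap φ) = Nat.card φ.ker * Nat.card T := by
    have h1 := Subgroup.relIndex_comap (⊥ : Subgroup (G ⧸ M)) φ (T.comap φ)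
    rw [MonoidHom.comap_bot, Subgroup.map_comap_eq_self_of_surjective hsurj, Subgroup.relIndex_bot_left] at h1
    rw [← h1, ← Subgroup.relIndex_bot_left φ.ker, Subgroup.relIndex_mul_relIndex ⊥ _ _ bot_le hle,
      Subgroup.relIndex_bot_left]
  have h2 : T.comap φ ≤ pPrimeCore p (G ⧸ U) := CfsgLib.le_pPrimeCore (by
    rw [hcard, hker]
    exact Nat.Coprime.mul_left (CfsgLib.card_pPrimeCore_coprime p) (CfsgLib.card_pPrimeCore_coprime p))
  rw [eq_bot_iff]
  intro y hy
  obtain ⟨z, rfl⟩ := hsurj y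
  have : z ∈ φ.ker := hker.ge (h2 hy)
  exact this

end CfsgLib.PLocal
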