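import Mathlib
import Cfsg.Prelude.Def_Local
import Cfsg.Agent.Lib.Basic

/-!
Solvable groups are `p`-solvable.
-/

set_option autoImplicit false
set_option linter.unusedSectionVars false

universe u

namespace CfsgLib.PLocal

open Cfsg

theorem isPSolvable_of_ker {G : Type u} [Group G] [Finite G] {H : Type u} [Group H] {p : ℕ} (f : G →* H)
    (hf : Function.Surjective f) (hker : (∃ m, Nat.card f.ker = p ^ m) ∨ (Nat.card f.ker).Coprime p)
    (h : IsPSolvable p H) : IsPSolvable p G := by
  obtain ⟨n, K, h0, h1, hm, hn, hidx⟩ := h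
  let L : Fin (n + 2) → Subgroup G := Fin.cases ⊥ fun i => (K i).comap f
  have hL : ∀ i, L (Fin.succ i) = (K i).comap f := fun i => rfl
  refine ⟨n + 1, L, rfl, ?_, ?_, ?_, fun i => ?_⟩
  · rw [← Fin.succ_last, hL, h1, Subgroup.comap_top]
  · refine Fin.monotone_iff_le_succ.mpr fun i => ?_
    induction i using Fin.cases with
    | zero => exact bot_le
    | succ j =>
      rw [Fin.castSucc_succ, hL, hL]
      exact Subgroup.comap_mono (hm (Fin.castSucc_lt_succ).le)
  · intro i
    induction i using Fin.cases with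
    | zero => exact inferInstanceAs (⊥ : Subgroup G).Normal
    | succ j => rw [hL]; exact (hn j).comap f
  · induction i using Fin.cases with
    | zero =>
      have e : (L (Fin.castSucc 0)).relIndex (L (Fin.succ 0)) = Nat.card f.ker := by
        rw [hL, h0]
        show (⊥ : Subgroup G).relIndex ((⊥ : Subgroup H).comap f) = _
        rw [Subgroup.relIndex_bot_left, MonoidHom.comap_bot]
      rw [e]; exact hker
    | succ j =>
      rw [Fin.castSucc_succ, hL, hL, Subgroup.relIndex_comap, Subgroup.map_comap_eq_self_of_surjective hf]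
      exact hidx j

theorem isPSolvable_of_isSolvable {p : ℕ} [Fact p.Prime] : ∀ (n : ℕ) (G : Type u) [Group G] [Finite G],
    Nat.card G = n → Group.IsSolvable G → IsPSolvable p G := by
  intro n
  induction n using Nat.strong_induction_on with
  | _ n ih =>
  intro G _ _ hn hs
  rcases subsingleton_or_nontrivial G with hsub | hnt
  · exact ⟨0, fun _ => ⊥, rfl, Subsingleton.elim _ _, fun _ _ _ => le_rfl, fun _ => inferInstance, fun i => i.elim0⟩
  obtain ⟨N, hN, hne, hk⟩ : ∃ N : Subgroup G, N.Normal ∧ N ≠ ⊥ ∧
      ((∃ m, Nat.card N = p ^ m) ∨ (Nat.card N).Coprime p) := by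
    by_cases hp : pCore p G = ⊥
    swap
    · exact ⟨_, inferInstance, hp, Or.inl (IsPGroup.iff_card.1 (CfsgLib.isPGroup_pCore p))⟩
    obtain ⟨A, hAn, hA1, hAc⟩ : ∃ A : Subgroup G, A.Normal ∧ A ≠ ⊥ ∧ IsMulCommutative A := by
      obtain ⟨k, hk⟩ := hs.solvable
      induction k with
      | zero => exact absurd hk (by rw [derivedSeries_zero]; exact top_ne_bot)
      | succ k ihk =>
        by_cases h : derivedSeries G k = ⊥
        · exact ihk h
        · refine ⟨_, derivedSeries_normal G k, h, ⟨⟨fun a b => Subtype.ext ?_⟩⟩⟩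
          have := Subgroup.commutator_mem_commutator a.2 b.2
          rw [← derivedSeries_succ, hk, Subgroup.mem_bot, commutatorElement_eq_one_iff_mul_comm] at this
          exact this
    refine ⟨A, hAn, hA1, Or.inr ?_⟩
    rw [Nat.coprime_comm, (Fact.out : p.Prime).coprime_iff_not_dvd]
    intro hd
    obtain ⟨P⟩ : Nonempty (Sylow p A) := inferInstance
    haveI : (P : Subgroup A).Normal := ⟨fun x hx g => by
      rw [hAc.is_comm.comm g x, mul_inv_cancel_right]; exact hx⟩
    haveI : (P : Subgroup A).Characteristic := P.characteristic_of_normal inferInstance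
    haveI : ((P : Subgroup A).map A.subtype).Normal := ConjAct.normal_of_characteristic_of_normal
    have h1 : (P : Subgroup A).map A.subtype ≤ pCore p G := CfsgLib.le_pCore (P.2.map _)
    rw [hp, le_bot_iff, Subgroup.map_eq_bot_iff_of_injective _ A.subtype_injective] at h1
    exact P.ne_bot_of_dvd_card hd h1
  have hlt : Nat.card (G ⧸ N) < n := by
    rw [← hn, Subgroup.card_eq_card_quotient_mul_card_subgroup N]
    exact lt_mul_of_one_lt_right Nat.card_pos ((Subgroup.one_lt_card_iff_ne_bot N).2 hne)
  refine isPSolvable_of_ker (QuotientGroup.mk' N) (QuotientGroup.mk'_surjective N) ?_ (ih _ hlt (G ⧸ N) rfl ?_)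
  · rwa [QuotientGroup.ker_mk']
  · haveI := hs; exact Group.isSolvable_of_surjective (QuotientGroup.mk'_surjective N)

end CfsgLib.PLocal
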