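import Cfsg.Agent.Lib.PLocal.StableNormal
import Cfsg.Agent.Lib.PLocal.Constrained

/-!
Thompson factorisation.
-/

set_option autoImplicit false
set_option linter.unusedSectionVars false

namespace CfsgLib.PLocal

open CfsgLib Cfsg
open scoped Pointwise commutatorElement

universe u
variable {G : Type u} [Group G] [Finite G] {p : ℕ} [Fact p.Prime]

theorem isPGroup_elementary {A : Subgroup G} (hA : IsElementaryAbelian p A) : IsPGroup p A :=
  fun a => ⟨1, Subtype.ext (by simpa using hA.2 a a.2)⟩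

theorem isElementary_map {H : Type u} [Group H] (f : G →* H) {A : Subgroup G}
    (hA : IsElementaryAbelian p A) : IsElementaryAbelian p (A.map f) := by
  obtain ⟨hc, he⟩ := hA
  refine ⟨inferInstance, ?_⟩
  rintro _ ⟨a, ha, rfl⟩
  rw [← map_pow, he a ha, map_one]

theorem isElementary_comap {S A : Subgroup G} (hA : IsElementaryAbelian p A) :
    IsElementaryAbelian p (A.subgroupOf S) := by
  obtain ⟨hc, he⟩ := hA
  exact ⟨⟨⟨fun a b => Subtype.ext (Subtype.ext (Subgroup.mul_comm_of_mem_isMulCommutative A a.2 b.2))⟩⟩,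
    fun a ha => Subtype.ext (by simpa using he _ ha)⟩

theorem map_mem_max {S : Sylow p G} {A : Subgroup ↥(S : Subgroup G)}
    (hA : A ∈ maxElementaryAbelianSubgroups p ↥(S : Subgroup G)) :
    A.map (S : Subgroup G).subtype ∈ maxElementaryAbelianSubgroups p G := by
  refine ⟨isElementary_map _ hA.1, fun B hB => ?_⟩
  obtain ⟨S', hS'⟩ := (isPGroup_elementary hB).exists_le_sylow
  obtain ⟨g, rfl⟩ := MulAction.exists_smul_eq G S S'
  have hle : B.map (MulAut.conj g⁻¹).toMonoidHom ≤ (S : Subgroup G) := by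
    rintro _ ⟨b, hb, rfl⟩
    obtain ⟨s, hs, e⟩ := hS' hb
    rw [← e]
    simpa [mul_assoc] using (SetLike.mem_coe.1 hs)
  have h := hA.2 _ (isElementary_comap (S := (S : Subgroup G))
    (isElementary_map (MulAut.conj g⁻¹).toMonoidHom hB))
  rw [Nat.card_congr (Subgroup.subgroupOfEquivOfLe hle).toEquiv,
    Subgroup.card_map_of_injective (MulAut.conj g⁻¹).injective] at h
  rwa [Subgroup.card_map_of_injective (S : Subgroup G).subtype_injective]

theorem subgroupOf_mem_max {S A : Subgroup G} (hAS : A ≤ S)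
    (hA : A ∈ maxElementaryAbelianSubgroups p G) :
    A.subgroupOf S ∈ maxElementaryAbelianSubgroups p S :=
  ⟨isElementary_comap hA.1, fun B hB => by
    rw [Nat.card_congr (Subgroup.subgroupOfEquivOfLe hAS).toEquiv,
      ← Subgroup.card_map_of_injective S.subtype_injective (K := B)]
    exact hA.2 _ (isElementary_map _ hB)⟩

theorem le_thompsonSubgroupOf {S A : Subgroup G} (hAS : A ≤ S)
    (hA : A ∈ maxElementaryAbelianSubgroups p G) : A ≤ thompsonSubgroupOf p S := fun a ha =>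
  ⟨⟨a, hAS ha⟩, le_sSup (subgroupOf_mem_max hAS hA) ha, rfl⟩

theorem thompsonSubgroupOf_le (S : Sylow p G) :
    thompsonSubgroupOf p (S : Subgroup G) ≤ thompsonSubgroup p G := by
  rw [thompsonSubgroupOf, Subgroup.map_le_iff_le_comap]
  exact sSup_le fun A hA => Subgroup.map_le_iff_le_comap.1 (le_sSup (map_mem_max hA))

theorem normalizer_inf_le_normalizer_thompson (S : Sylow p G) {C : Subgroup G}
    (hJ : thompsonSubgroupOf p (S : Subgroup G) ≤ C) :
    Subgroup.normalizer (((S : Subgroup G) ⊓ C : Subgroup G) : Set G) ≤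
      Subgroup.normalizer (thompsonSubgroupOf p (S : Subgroup G) : Set G) := by
  set J := thompsonSubgroupOf p (S : Subgroup G) with hJd
  have hmove : ∀ g ∈ Subgroup.normalizer (((S : Subgroup G) ⊓ C : Subgroup G) : Set G),
      ∀ x ∈ J, g * x * g⁻¹ ∈ J := by
    intro g hg
    suffices hle : J ≤ J.comap (MulAut.conj g).toMonoidHom from fun x hx => hle hx
    rw [hJd, thompsonSubgroupOf, Subgroup.map_le_iff_le_comap]
    refine sSup_le fun A hA => ?_
    rw [← Subgroup.map_le_iff_le_comap, ← Subgroup.map_le_iff_le_comap]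
    have hAC : A.map (S : Subgroup G).subtype ≤ (S : Subgroup G) ⊓ C :=
      le_inf (Subgroup.map_subtype_le _) (le_trans (Subgroup.map_mono (le_sSup hA)) hJ)
    refine le_thompsonSubgroupOf ?_ ⟨isElementary_map _ (map_mem_max hA).1, fun B hB => ?_⟩
    · rintro _ ⟨a, ha, rfl⟩
      exact ((Subgroup.mem_normalizer_iff.1 hg a).1 (hAC ha)).1
    · rw [Subgroup.card_map_of_injective (MulAut.conj g).injective]
      exact (map_mem_max hA).2 B hB
  intro g hg
  refine Subgroup.mem_normalizer_iff.2 fun x => ⟨hmove g hg x, fun hx => ?_⟩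
  simpa [mul_assoc] using hmove g⁻¹ (inv_mem hg) _ hx

/-- `Ω₁(Z(S))`. -/
abbrev omegaZ (p : ℕ) {G : Type u} [Group G] (S : Subgroup G) : Subgroup G :=
  omegaOne p (S ⊓ Subgroup.centralizer (S : Set G))

theorem omegaZ_le (S : Subgroup G) : omegaZ p S ≤ S :=
  (Subgroup.closure_le _).2 fun _ hx => hx.1.1

theorem omegaZ_centralizes (S : Subgroup G) : S ≤ Subgroup.centralizer (omegaZ p S : Set G) := by
  intro s hs z hz
  have : omegaZ p S ≤ Subgroup.centralizer (S : Set G) := (Subgroup.closure_le _).2 fun _ hx => hx.1.2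
  exact (this hz s hs).symm

theorem omegaZ_map {H : Type u} [Group H] (f : G →* H) {S : Subgroup G}
    (hf : ∀ a ∈ S, ∀ b ∈ S, f a = f b → a = b) : (omegaZ p S).map f = omegaZ p (S.map f) := by
  rw [omegaZ, omegaOne, omegaZ, omegaOne, MonoidHom.map_closure]
  congr 1
  ext y
  constructor
  · rintro ⟨x, ⟨⟨hxS, hxc⟩, hxp⟩, rfl⟩
    refine ⟨⟨⟨x, hxS, rfl⟩, ?_⟩, by rw [← map_pow, hxp, map_one]⟩
    rintro _ ⟨s, hs, rfl⟩
    rw [← map_mul, ← map_mul, hxc s hs]
  · rintro ⟨⟨⟨x, hxS, rfl⟩, hxc⟩, hxp⟩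
    refine ⟨x, ⟨⟨hxS, fun s hs => hf _ (S.mul_mem hs hxS) _ (S.mul_mem hxS hs) (by
      rw [map_mul, map_mul, hxc _ ⟨s, hs, rfl⟩])⟩, hf _ (S.pow_mem hxS p) _ S.one_mem (by
      rw [map_pow, hxp, map_one])⟩, rfl⟩

theorem thompsonSubgroupOf_map {H : Type u} [Group H] (f : G →* H) {S : Subgroup G}
    (hf : ∀ a ∈ S, ∀ b ∈ S, f a = f b → a = b) :
    (thompsonSubgroupOf p S).map f = thompsonSubgroupOf p (S.map f) := by
  let η : S ≃* (S.map f) := MulEquiv.ofBijective (f.subgroupMap S)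
    ⟨fun a b h => Subtype.ext (hf a a.2 b b.2 (congrArg Subtype.val h)), f.subgroupMap_surjective S⟩
  rw [thompsonSubgroupOf, thompsonSubgroupOf, ← thompsonSubgroup_map η, Subgroup.map_map, Subgroup.map_map]
  rfl

/-- Normalisers of `p`-groups lift through normal `p'`-subgroups. -/
theorem map_normalizer_eq (N : Subgroup G) [N.Normal] (hN : (Nat.card N).Coprime p) {P : Subgroup G}
    (hP : IsPGroup p P) :
    (Subgroup.normalizer (P : Set G)).map (QuotientGroup.mk' N) =
      Subgroup.normalizer ((P.map (QuotientGroup.mk' N) : Subgroup (G ⧸ N)) : Set (G ⧸ N)) := by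
  refine le_antisymm (Subgroup.le_normalizer_map _) fun y hy => ?_
  obtain ⟨x, rfl⟩ := QuotientGroup.mk'_surjective N y
  obtain ⟨k, hk⟩ := IsPGroup.iff_card.1 hP
  haveI : Group.IsNilpotent P := hP.isNilpotent
  obtain ⟨w, hw, hnorm⟩ := coprime_key_normalize (A := P) (W := N) (by rw [hk]; exact hN.symm.pow_left k)
    (Or.inl inferInstance) (by rw [Subgroup.normalizer_eq_top]; exact le_top) (k := x) fun a ha => by
      obtain ⟨b, hb, e⟩ := (Subgroup.mem_normalizer_iff.1 (inv_mem hy) _).1 ⟨a, ha, rfl⟩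
      rw [inv_inv, ← map_inv, ← map_mul, ← map_mul] at e
      have h1 : b⁻¹ * (x⁻¹ * a * x) ∈ N := QuotientGroup.eq.1 e
      have h2 := Subgroup.mul_mem _ (Subgroup.mem_sup_right hb : b ∈ N ⊔ P) (Subgroup.mem_sup_left h1)
      simpa using h2
  refine ⟨x * w, ?_, by rw [map_mul, show QuotientGroup.mk' N w = 1 from (QuotientGroup.eq_one_iff w).2 hw,
    mul_one]⟩
  have hmap : P.map (MulAut.conj (x * w)).toMonoidHom = P := by
    refine Subgroup.eq_of_le_of_card_ge ?_ (by rw [Subgroup.card_map_of_injective (MulAut.conj (x * w)).injective])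
    rintro _ ⟨a, ha, rfl⟩
    exact hnorm a ha
  refine Subgroup.mem_normalizer_iff.2 fun z => ⟨fun hz => hnorm z hz, fun hz => ?_⟩
  obtain ⟨a, ha, e⟩ := hmap.ge hz
  rwa [← (MulAut.conj (x * w)).injective e]

theorem isThompsonFactorizable_iff_quotient :
    IsThompsonFactorizable p G ↔ IsThompsonFactorizable p (G ⧸ pPrimeCore p G) := by
  set K := pPrimeCore p G with hK
  set q := QuotientGroup.mk' K with hq
  have hKc : (Nat.card K).Coprime p := CfsgLib.card_pPrimeCore_coprime p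
  have hinj : ∀ S : Sylow p G, ∀ a ∈ (S : Subgroup G), ∀ b ∈ (S : Subgroup G), q a = q b → a = b := by
    intro S a ha b hb hab
    have hm : a⁻¹ * b ∈ K := QuotientGroup.eq.1 hab
    obtain ⟨k, hk⟩ := IsPGroup.iff_card.1 S.2
    exact inv_mul_eq_one.1 (Subgroup.disjoint_def.1 (Subgroup.disjoint_of_coprime_natCard
      (by rw [hk]; exact hKc.symm.pow_left k))
      ((S : Subgroup G).mul_mem ((S : Subgroup G).inv_mem ha) hb) hm)
  constructor
  · intro h T y
    obtain ⟨S⟩ : Nonempty (Sylow p G) := inferInstance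
    obtain ⟨t, ht⟩ := MulAction.exists_smul_eq (G ⧸ K) (S.mapSurjective (QuotientGroup.mk'_surjective K)) T
    obtain ⟨g₀, rfl⟩ := QuotientGroup.mk'_surjective K t
    have hTS : (T : Subgroup (G ⧸ K)) = ((g₀ • S : Sylow p G) : Subgroup G).map q := by
      rw [← ht]
      ext z
      constructor
      · rintro ⟨_, ⟨s, hs, rfl⟩, rfl⟩
        exact ⟨_, ⟨s, hs, rfl⟩, by simp [hq]⟩
      · rintro ⟨_, ⟨s, hs, rfl⟩, rfl⟩
        exact ⟨q s, ⟨s, hs, rfl⟩, by simp [hq]⟩
    obtain ⟨g, rfl⟩ := QuotientGroup.mk'_surjective K y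
    obtain ⟨x, hx, c, hc, n, hn, rfl⟩ := h (g₀ • S) g
    refine ⟨1, one_mem _, q c, ?_, q n, ?_, ?_⟩
    · rw [hTS, show omegaOne p (((g₀ • S : Sylow p G) : Subgroup G).map q ⊓ Subgroup.centralizer
        ((((g₀ • S : Sylow p G) : Subgroup G).map q : Subgroup (G ⧸ K)) : Set (G ⧸ K))) =
        omegaZ p (((g₀ • S : Sylow p G) : Subgroup G).map q) from rfl, ← omegaZ_map q (hinj _)]
      rintro _ ⟨z, hz, rfl⟩
      rw [← map_mul, ← map_mul, hc z hz]
    · rw [hTS, ← thompsonSubgroupOf_map q (hinj _)]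
      exact Subgroup.le_normalizer_map q ⟨n, hn, rfl⟩
    · rw [map_mul, map_mul, show q x = 1 from (QuotientGroup.eq_one_iff x).2 hx]
  · intro h S g
    obtain ⟨x, hx, c, hc, n, hn, e⟩ := h (S.mapSurjective (QuotientGroup.mk'_surjective K)) (q g)
    rw [CfsgLib.pPrimeCore_quotient_eq_bot, Subgroup.mem_bot] at hx
    rw [hx, one_mul] at e
    have hZ : ((S.mapSurjective (QuotientGroup.mk'_surjective K) : Sylow p (G ⧸ K)) : Subgroup (G ⧸ K)) =
      (S : Subgroup G).map q := rfl
    rw [hZ, show omegaOne p ((S : Subgroup G).map q ⊓ Subgroup.centralizer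
      (((S : Subgroup G).map q : Subgroup (G ⧸ K)) : Set (G ⧸ K))) = omegaZ p ((S : Subgroup G).map q) from rfl,
      ← omegaZ_map q (hinj S), ← map_centralizer_eq K hKc (S.2.to_le (omegaZ_le _))] at hc
    rw [hZ, ← thompsonSubgroupOf_map q (hinj S),
      ← map_normalizer_eq K hKc (P := thompsonSubgroupOf p (S : Subgroup G)) (S.2.to_le (Subgroup.map_subtype_le _))] at hn
    obtain ⟨c', hc', rfl⟩ := hc
    obtain ⟨n', hn', rfl⟩ := hn
    refine ⟨g * (c' * n')⁻¹, ?_, c', hc', n', hn', by group⟩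
    rw [← QuotientGroup.eq_one_iff]
    show q (g * (c' * n')⁻¹) = 1
    rw [map_mul, map_inv, e, map_mul, mul_inv_cancel]

theorem isThompsonFactorizable_iff_centralizes (hO : pPrimeCore p G = ⊥) :
    IsThompsonFactorizable p G ↔ thompsonSubgroup p G ≤ Subgroup.centralizer
      ((⨆ S : Sylow p G, omegaZ p (S : Subgroup G) : Subgroup G) : Set G) := by
  have hmove : ∀ (g : G) (S : Sylow p G),
      (omegaZ p (S : Subgroup G)).map (MulAut.conj g).toMonoidHom = omegaZ p ((g • S : Sylow p G) : Subgroup G) :=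
    fun g S => omegaZ_map (S := (S : Subgroup G)) (MulAut.conj g).toMonoidHom
      (fun a _ b _ h => (MulAut.conj g).injective h)
  set V := ⨆ S : Sylow p G, omegaZ p (S : Subgroup G) with hV
  haveI hVn : V.Normal := by
    refine ⟨fun v hv g => ?_⟩
    have hle : V ≤ V.comap (MulAut.conj g).toMonoidHom := iSup_le fun S =>
      Subgroup.map_le_iff_le_comap.1 ((hmove g S).le.trans (le_iSup (fun S : Sylow p G => omegaZ p (S : Subgroup G)) _))
    exact hle hv
  constructor
  · intro h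
    refine sSup_le fun A hA a ha v hv => ?_
    obtain ⟨S, hAS⟩ := (isPGroup_elementary hA.1).exists_le_sylow
    have haJ : a ∈ thompsonSubgroupOf p (S : Subgroup G) := le_thompsonSubgroupOf hAS hA ha
    refine (Subgroup.mem_centralizer_singleton_iff.1 ((iSup_le fun S' => ?_ : V ≤
      Subgroup.centralizer ({a} : Set G)) hv))
    obtain ⟨g, rfl⟩ := MulAction.exists_smul_eq G S S'
    obtain ⟨x, hx, c, hc, n, hn, hg⟩ := h S g⁻¹
    rw [hO, Subgroup.mem_bot] at hx
    rw [hx, one_mul] at hg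
    rw [← hmove]
    rintro _ ⟨z, hz, rfl⟩
    refine Subgroup.mem_centralizer_singleton_iff.2 ?_
    show g * z * g⁻¹ * a = a * (g * z * g⁻¹)
    have hgeq : g = n⁻¹ * c⁻¹ := by rw [← inv_inv g, hg, mul_inv_rev]
    have hcz : c⁻¹ * z * c = z := by rw [mul_assoc, hc z hz, inv_mul_cancel_left]
    have hgz : g * z * g⁻¹ = n⁻¹ * z * n := by
      calc g * z * g⁻¹ = n⁻¹ * (c⁻¹ * z * c) * n := by rw [hgeq]; group
        _ = _ := by rw [hcz]
    rw [hgz]
    have han : n * a * n⁻¹ ∈ (S : Subgroup G) :=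
      Subgroup.map_subtype_le _ ((Subgroup.mem_normalizer_iff.1 hn a).1 haJ)
    have hz2 := omegaZ_centralizes (p := p) (S : Subgroup G) han z hz
    calc n⁻¹ * z * n * a = n⁻¹ * (z * (n * a * n⁻¹)) * n := by group
      _ = n⁻¹ * (n * a * n⁻¹ * z) * n := by rw [hz2]
      _ = a * (n⁻¹ * z * n) := by group
  · intro h S g
    set C := Subgroup.centralizer (V : Set G)
    have hJC : thompsonSubgroupOf p (S : Subgroup G) ≤ C := (thompsonSubgroupOf_le S).trans h
    obtain ⟨P, hP⟩ := exists_sylow_inf S C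
    have hfr := Sylow.normalizer_sup_eq_top P
    rw [hP, sup_comm] at hfr
    obtain ⟨c, hc, n, hn, e⟩ := Subgroup.mem_sup_of_normal_left.1 (hfr.ge (Subgroup.mem_top g))
    refine ⟨1, one_mem _, c, ?_, n, normalizer_inf_le_normalizer_thompson S hJC hn, by rw [one_mul, e]⟩
    intro z hz
    exact hc z (le_iSup (fun S : Sylow p G => omegaZ p (S : Subgroup G)) S hz)

end CfsgLib.PLocal
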