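import Cfsg.Agent.Lib.PLocal.Timmesfeld

/-!
Replacement for elementary abelian subgroups of largest order.
-/

set_option autoImplicit false
set_option linter.unusedSectionVars false

namespace CfsgLib.PLocal

open CfsgLib Cfsg
open scoped commutatorElement

variable {G : Type*} [Group G] {p : ℕ}

theorem sup_le_centralizer_sup {K L : Subgroup G}
    (hK : ∀ x ∈ K, ∀ y ∈ K, x * y = y * x) (hL : ∀ x ∈ L, ∀ y ∈ L, x * y = y * x)
    (hKL : ∀ x ∈ K, ∀ y ∈ L, x * y = y * x) :
    ∀ x ∈ K ⊔ L, ∀ y ∈ K ⊔ L, x * y = y * x := by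
  intro x hx y hy
  have h1 : ∀ z : G, (∀ u ∈ K, u * z = z * u) → (∀ u ∈ L, u * z = z * u) → ∀ u ∈ K ⊔ L, u * z = z * u := by
    intro z a b u hu
    have hle : K ⊔ L ≤ Subgroup.centralizer ({z} : Set G) :=
      sup_le (fun w hw => Subgroup.mem_centralizer_singleton_iff.2 (a w hw))
        (fun w hw => Subgroup.mem_centralizer_singleton_iff.2 (b w hw))
    exact Subgroup.mem_centralizer_singleton_iff.1 (hle hu)
  refine h1 y (fun u hu => ?_) (fun u hu => ?_) x hx
  · exact (h1 u (fun w hw => hK w hw u hu) (fun w hw => (hKL u hu w hw).symm) y hy).symm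
  · exact (h1 u (fun w hw => hKL w hw u hu) (fun w hw => hL w hw u hu) y hy).symm

theorem isElementaryAbelian_sup {K L : Subgroup G} (hK : IsElementaryAbelian p K) (hL : IsElementaryAbelian p L)
    (hKL : ∀ x ∈ K, ∀ y ∈ L, x * y = y * x) : IsElementaryAbelian p (K ⊔ L) := by
  have hc := sup_le_centralizer_sup
    (fun x hx y hy => haveI := hK.1; Subgroup.mul_comm_of_mem_isMulCommutative K hx hy)
    (fun x hx y hy => haveI := hL.1; Subgroup.mul_comm_of_mem_isMulCommutative L hx hy) hKL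
  refine ⟨⟨⟨fun a b => Subtype.ext (hc a a.2 b b.2)⟩⟩, ?_⟩
  intro a ha
  rw [Subgroup.sup_eq_closure] at ha
  have hcl : ∀ z ∈ Subgroup.closure ((K : Set G) ∪ (L : Set G)), z ∈ K ⊔ L := fun z hz => by
    rwa [Subgroup.sup_eq_closure]
  induction ha using Subgroup.closure_induction with
  | mem x hx => exact hx.elim (hK.2 x) (hL.2 x)
  | one => exact one_pow _
  | mul x y hx hy h1 h2 =>
    rw [(show Commute x y from hc x (hcl x hx) y (hcl y hy)).mul_pow, h1, h2, one_mul]
  | inv x _ h => rw [inv_pow, h, inv_one]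

theorem isElementaryAbelian_of_le {K L : Subgroup G} (hL : IsElementaryAbelian p L) (h : K ≤ L) :
    IsElementaryAbelian p K :=
  ⟨⟨⟨fun a b => Subtype.ext (haveI := hL.1; Subgroup.mul_comm_of_mem_isMulCommutative L (h a.2) (h b.2))⟩⟩,
    fun a ha => hL.2 a (h ha)⟩

variable [Finite G]

theorem offender_of_maxElementary {V A : Subgroup G} [V.Normal] (hV : IsElementaryAbelian p V)
    (hA : A ∈ maxElementaryAbelianSubgroups p G) :
    V ⊓ Subgroup.centralizer (A : Set G) = A ⊓ V ∧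
      ∀ B : Subgroup G, B ≤ A → measure' V B ≤ measure' V A := by
  have hAc : ∀ x ∈ A, ∀ y ∈ A, x * y = y * x :=
    fun x hx y hy => haveI := hA.1.1; Subgroup.mul_comm_of_mem_isMulCommutative A hx hy
  have hext : ∀ B : Subgroup G, B ≤ A →
      Nat.card ↥(B ⊔ (V ⊓ Subgroup.centralizer (B : Set G))) ≤ Nat.card A := fun B hB =>
    hA.2 _ (isElementaryAbelian_sup (isElementaryAbelian_of_le hA.1 hB)
      (isElementaryAbelian_of_le hV inf_le_left) fun x hx y hy => hy.2 x hx)
  have hC : V ⊓ Subgroup.centralizer (A : Set G) = A ⊓ V := by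
    refine le_antisymm (le_inf ?_ inf_le_left) fun x hx => ⟨hx.2, fun a ha => hAc a ha x hx.1⟩
    exact le_sup_right.trans (Subgroup.eq_of_le_of_card_ge le_sup_left (hext A le_rfl)).ge
  refine ⟨hC, fun B hB => ?_⟩
  have hn : V ⊓ Subgroup.centralizer (B : Set G) ≤ Subgroup.normalizer (B : Set G) := fun x hx => by
    refine Subgroup.mem_normalizer_iff.2 fun y => ⟨fun hy => ?_, fun hy => ?_⟩
    · rwa [← hx.2 y hy, mul_inv_cancel_right]
    · have h := hx.2 _ hy
      have h' : x * y * x⁻¹ = y := by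
        have := congrArg (fun z => x⁻¹ * z) h
        simpa [mul_assoc] using this.symm
      rwa [h'] at hy
  have hc := ZJ.card_mul_eq_of_le_normalizer hn
  have h1 : Nat.card ↥(B ⊓ (V ⊓ Subgroup.centralizer (B : Set G))) ≤
      Nat.card ↥(V ⊓ Subgroup.centralizer (A : Set G)) :=
    Subgroup.card_le_of_le (hC ▸ inf_le_inf hB inf_le_left)
  calc measure' V B = _ := hc
    _ ≤ _ := Nat.mul_le_mul (hext B hB) h1

/-- The replaced subgroup. -/
theorem maxElementary_replacement {V A : Subgroup G} [V.Normal] (hV : IsElementaryAbelian p V)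
    (hA : A ∈ maxElementaryAbelianSubgroups p G) :
    (⁅V, A⁆ ⊔ (A ⊓ Subgroup.centralizer ((⁅V, A⁆ : Subgroup G) : Set G))) ∈ maxElementaryAbelianSubgroups p G ∧
    ⁅⁅V, ⁅V, A⁆ ⊔ (A ⊓ Subgroup.centralizer ((⁅V, A⁆ : Subgroup G) : Set G))⁆,
      ⁅V, A⁆ ⊔ (A ⊓ Subgroup.centralizer ((⁅V, A⁆ : Subgroup G) : Set G))⁆ = ⊥ := by
  obtain ⟨hCA, hno⟩ := offender_of_maxElementary hV hA
  have hVc : ∀ v ∈ V, ∀ w ∈ V, v * w = w * v :=
    fun v hv w hw => haveI := hV.1; Subgroup.mul_comm_of_mem_isMulCommutative V hv hw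
  have hAV : A ≤ Subgroup.normalizer (V : Set G) := by rw [Subgroup.normalizer_eq_top]; exact le_top
  have hAA : ⁅A, A⁆ ≤ Subgroup.centralizer (V : Set G) := by
    refine Subgroup.commutator_le.2 fun a ha b hb => ?_
    rw [commutatorElement_eq_one_iff_mul_comm.2 (haveI := hA.1.1;
      Subgroup.mul_comm_of_mem_isMulCommutative A ha hb)]
    exact one_mem _
  obtain ⟨hX, heq⟩ := timmesfeld hVc hAV hAA hno (U := V) le_rfl
  set K := ⁅V, A⁆ with hK
  set B := A ⊓ Subgroup.centralizer (K : Set G) with hB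
  have hKV : K ≤ V := Subgroup.commutator_le_left _ _
  have hKB : ∀ x ∈ K, ∀ y ∈ B, x * y = y * x := fun x hx y hy => hy.2 x hx
  have hel : IsElementaryAbelian p (K ⊔ B) :=
    isElementaryAbelian_sup (isElementaryAbelian_of_le hV hKV) (isElementaryAbelian_of_le hA.1 inf_le_left) hKB
  refine ⟨⟨hel, fun D hD => (hA.2 D hD).trans ?_⟩, ?_⟩
  · set X := V ⊓ Subgroup.centralizer (B : Set G) with hXdef
    have hCB : V ⊓ Subgroup.centralizer (A : Set G) ≤ B := by
      rw [hCA]
      exact fun x hx => ⟨hx.1, fun k hk => hVc k (hKV hk) x hx.2⟩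
    have hXle : B ⊔ X ≤ K ⊔ B := by
      refine sup_le le_sup_right ?_
      rw [hX]
      exact sup_le le_sup_left (hCB.trans le_sup_right)
    have hn : X ≤ Subgroup.normalizer (B : Set G) := fun x hx => by
      refine Subgroup.mem_normalizer_iff.2 fun y => ⟨fun hy => ?_, fun hy => ?_⟩
      · rwa [← hx.2 y hy, mul_inv_cancel_right]
      · have h := hx.2 _ hy
        have h' : x * y * x⁻¹ = y := by
          have := congrArg (fun z => x⁻¹ * z) h
          simpa [mul_assoc] using this.symm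
        rwa [h'] at hy
    have hc := ZJ.card_mul_eq_of_le_normalizer hn
    have h2 : B ⊓ X ≤ V ⊓ Subgroup.centralizer (A : Set G) := by
      rw [hCA]; exact inf_le_inf inf_le_left inf_le_left
    have h3 : Nat.card A * Nat.card ↥(V ⊓ Subgroup.centralizer (A : Set G)) ≤
        Nat.card ↥(K ⊔ B) * Nat.card ↥(V ⊓ Subgroup.centralizer (A : Set G)) := by
      calc Nat.card A * Nat.card ↥(V ⊓ Subgroup.centralizer (A : Set G))
          = Nat.card B * Nat.card X := heq.symm
        _ = _ := hc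
        _ ≤ _ := Nat.mul_le_mul (Subgroup.card_le_of_le hXle) (Subgroup.card_le_of_le h2)
    exact Nat.le_of_mul_le_mul_right h3 Nat.card_pos
  · have hVK : ⁅V, K ⊔ B⁆ ≤ K := by
      refine Subgroup.commutator_le.2 fun v hv t ht => ?_
      rw [← SetLike.mem_coe, Subgroup.coe_mul_of_left_le_normalizer_right _ _ (fun x hx => ?_)] at ht
      · obtain ⟨k, hk, b, hb, rfl⟩ := ht
        have hvb : ⁅v, b⁆ ∈ K := Subgroup.commutator_mem_commutator hv hb.1
        have e : ⁅v, k * b⁆ = ⁅v, k⁆ * (k * ⁅v, b⁆ * k⁻¹) := by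
          simp only [commutatorElement_def]; group
        rw [e, commutatorElement_eq_one_iff_mul_comm.2 (hVc v hv k (hKV hk)), one_mul]
        exact K.mul_mem (K.mul_mem hk hvb) (K.inv_mem hk)
      · refine Subgroup.mem_normalizer_iff.2 fun y => ⟨fun hy => ?_, fun hy => ?_⟩
        · rwa [hKB x hx y hy, mul_inv_cancel_right]
        · have h := hKB x hx _ hy
          have h' : x * y * x⁻¹ = y := by
            have := congrArg (fun z => x⁻¹ * z) h
            simpa [mul_assoc] using this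
          rwa [h'] at hy
    rw [Subgroup.commutator_eq_bot_iff_le_centralizer]
    refine hVK.trans fun k hk t ht => ?_
    haveI := hel.1
    exact Subgroup.mul_comm_of_mem_isMulCommutative (K ⊔ B) ht (Subgroup.mem_sup_left hk)

theorem maxElementary_replacement_ne [Fact p.Prime] {V A : Subgroup G} [V.Normal] (hV : IsElementaryAbelian p V)
    (hA : A ∈ maxElementaryAbelianSubgroups p G) (hne : ⁅V, A⁆ ≠ ⊥) :
    ⁅V, ⁅V, A⁆ ⊔ (A ⊓ Subgroup.centralizer ((⁅V, A⁆ : Subgroup G) : Set G))⁆ ≠ ⊥ := by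
  intro hbot
  obtain ⟨hCA, hno⟩ := offender_of_maxElementary hV hA
  have hVc : ∀ v ∈ V, ∀ w ∈ V, v * w = w * v :=
    fun v hv w hw => haveI := hV.1; Subgroup.mul_comm_of_mem_isMulCommutative V hv hw
  have hAV : A ≤ Subgroup.normalizer (V : Set G) := by rw [Subgroup.normalizer_eq_top]; exact le_top
  have hAA : ⁅A, A⁆ ≤ Subgroup.centralizer (V : Set G) := by
    refine Subgroup.commutator_le.2 fun a ha b hb => ?_
    rw [commutatorElement_eq_one_iff_mul_comm.2 (haveI := hA.1.1;
      Subgroup.mul_comm_of_mem_isMulCommutative A ha hb)]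
    exact one_mem _
  obtain ⟨hX, -⟩ := timmesfeld hVc hAV hAA hno (U := V) le_rfl
  refine hne (commutator_eq_bot_of_sup (p := p) (fun v => ⟨1, Subtype.ext (by simpa using hV.2 v v.2)⟩) hVc hAV
    (fun a ha => ⟨1, by simp only [pow_one]; rw [hA.1.2 a ha]; exact one_mem _⟩) fun v hv => ?_)
  rw [← hX]
  refine ⟨hv, fun b hb => (commutatorElement_eq_one_iff_mul_comm.1 ?_).symm⟩
  have := Subgroup.commutator_mem_commutator (H₂ := ⁅V, A⁆ ⊔ (A ⊓ Subgroup.centralizer
    ((⁅V, A⁆ : Subgroup G) : Set G))) hv (Subgroup.mem_sup_right hb)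
  rwa [hbot, Subgroup.mem_bot] at this

end CfsgLib.PLocal
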