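import Cfsg.Agent.Lib.PLocal.Constrained

/-!
`p`-constraint of normalisers and centralisers of `p`-subgroups.
-/

set_option autoImplicit false
set_option linter.unusedSectionVars false

namespace CfsgLib.PLocal

open CfsgLib Cfsg
open scoped Pointwise

universe u
variable {G : Type u} [Group G] [Finite G] {p : ℕ} [Fact p.Prime]

theorem eq_one_of_pPrime {U : Subgroup G} (hU : IsPGroup p U) {x : G} (hxU : x ∈ U)
    (hox : (orderOf x).Coprime p) : x = 1 := by
  obtain ⟨e, he⟩ := IsPGroup.iff_card.1 hU
  exact orderOf_eq_one_iff.1 (Nat.eq_one_of_dvd_coprimes (hox.pow_right e) dvd_rfl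
    (he ▸ Subgroup.orderOf_dvd_natCard U hxU))

theorem centralizer_le_of_constrained {X : Type u} [Group X] [Finite X]
    (hc : Subgroup.centralizer (pCore p X : Set X) ≤ pCore p X) {P Y : Subgroup X} (hP : IsPGroup p P)
    (hYn : Y ≤ Subgroup.normalizer (P : Set X))
    (hUY : pCore p X ⊓ Subgroup.centralizer (P : Set X) ≤ Y)
    (hPc : ∀ c : Y, c ∈ Subgroup.centralizer (pCore p Y : Set Y) → (c : X) ∈ Subgroup.centralizer (P : Set X)) :
    Subgroup.centralizer (pCore p Y : Set Y) ≤ pCore p Y := by
  set U := pCore p X with hU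
  set W := U ⊓ Subgroup.centralizer (P : Set X) with hW
  have hWR : W.subgroupOf Y ≤ pCore p Y := by
    haveI : (W.subgroupOf Y).Normal := ⟨fun w hw y => by
      obtain ⟨hwU, hwc⟩ := hw
      refine ⟨(inferInstance : (pCore p X).Normal).conj_mem _ hwU _, fun t ht => ?_⟩
      have ht' := (Subgroup.mem_normalizer_iff.1 (hYn (Y.inv_mem y.2)) t).1 ht
      have := congrArg (fun z => (y : X) * z * (y : X)⁻¹) (hwc _ ht')
      simpa [mul_assoc] using this⟩
    exact CfsgLib.le_pCore (((CfsgLib.isPGroup_pCore p).to_le inf_le_left).comap_of_injective Y.subtype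
      Y.subtype_injective)
  set C' := Subgroup.centralizer (pCore p Y : Set Y) with hC'
  refine CfsgLib.le_pCore (N := C') ?_
  have hP' := (Fact.out : p.Prime)
  have key : ∀ c ∈ C', (orderOf c).Coprime p → c = 1 := by
    intro c hcC hoc
    have hcP : ∀ t ∈ P, Commute t (c : X) := fun t ht => hPc c hcC t ht
    set Q := Subgroup.zpowers (c : X)
    have hQ : (Nat.card Q).Coprime p := by
      rw [Nat.card_zpowers, Subgroup.orderOf_coe]; exact hoc
    have hPQ : P ≤ Subgroup.centralizer (Q : Set X) := fun t ht z hz => by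
      obtain ⟨i, rfl⟩ := hz
      exact ((hcP t ht).zpow_right i).eq.symm
    have hQU := thompson_PxQ hP hQ hPQ U (CfsgLib.isPGroup_pCore p)
      (by rw [Subgroup.normalizer_eq_top]; exact le_top) (by rw [Subgroup.normalizer_eq_top]; exact le_top)
      (fun w hw z hz => by
        obtain ⟨i, rfl⟩ := hz
        have h1 : Commute (⟨w, hUY hw⟩ : Y) c := hcC ⟨w, hUY hw⟩ (hWR hw)
        exact ((h1.map Y.subtype).zpow_right i).eq.symm)
    exact Subtype.ext (eq_one_of_pPrime (CfsgLib.isPGroup_pCore p) (hc (hQU (Subgroup.mem_zpowers _)))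
      (by rw [Subgroup.orderOf_coe]; exact hoc))
  rintro ⟨c, hcC⟩
  obtain ⟨i, t, ht, hit⟩ := Nat.exists_eq_pow_mul_and_not_dvd (orderOf_pos c).ne' p hP'.ne_one
  refine ⟨i, Subtype.ext ?_⟩
  show c ^ p ^ i = 1
  refine key _ (Subgroup.pow_mem _ hcC _) ((hP'.coprime_iff_not_dvd.2 ht).symm.coprime_dvd_left
    (orderOf_dvd_of_pow_eq_one ?_))
  rw [← pow_mul, ← hit]
  exact pow_orderOf_eq_one _

/-- `O_{p'}(N_G(P)) = O_{p'}(G) ∩ N_G(P)`. -/
theorem pPrimeCore_normalizer
    (hc : Subgroup.centralizer (pCore p (G ⧸ pPrimeCore p G) : Set (G ⧸ pPrimeCore p G)) ≤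
      pCore p (G ⧸ pPrimeCore p G)) {P : Subgroup G} (hP : IsPGroup p P) :
    (pPrimeCore p ↥(Subgroup.normalizer (P : Set G))).map (Subgroup.normalizer (P : Set G)).subtype =
      pPrimeCore p G ⊓ Subgroup.normalizer (P : Set G) := by
  set K := pPrimeCore p G with hK
  set N := Subgroup.normalizer (P : Set G) with hN
  set q := QuotientGroup.mk' K with hq
  set Q0 := (pPrimeCore p N).map N.subtype with hQ0
  have hQ0c : (Nat.card Q0).Coprime p := by
    rw [hQ0, Subgroup.card_map_of_injective N.subtype_injective]; exact CfsgLib.card_pPrimeCore_coprime p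
  refine le_antisymm (le_inf ?_ (Subgroup.map_subtype_le _)) ?_
  · set U := pCore p (G ⧸ K) with hU
    set Qb := Q0.map q with hQb
    have hQbc : (Nat.card Qb).Coprime p := hQ0c.coprime_dvd_left (Subgroup.card_map_dvd _ _)
    have hdis : ∀ (R : Subgroup N), R.Normal → IsPGroup p R → ∀ z ∈ pPrimeCore p N, ∀ r ∈ R, Commute r z := by
      intro R hRn hR z hz r hr
      obtain ⟨e, he⟩ := IsPGroup.iff_card.1 hR
      exact Subgroup.commute_of_normal_of_disjoint _ _ hRn inferInstance
        (Subgroup.disjoint_of_coprime_natCard (by rw [he]; exact (CfsgLib.card_pPrimeCore_coprime p).symm.pow_left e))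
        r z hr hz
    have hPQ : P.map q ≤ Subgroup.centralizer (Qb : Set (G ⧸ K)) := by
      rintro _ ⟨t, ht, rfl⟩ _ ⟨_, ⟨z, hz, rfl⟩, rfl⟩
      have h1 := hdis (P.subgroupOf N) Subgroup.normal_in_normalizer
        (hP.comap_of_injective N.subtype N.subtype_injective) z hz ⟨t, Subgroup.le_normalizer ht⟩ ht
      rw [← map_mul, ← map_mul]
      exact congrArg q (congrArg Subtype.val h1).symm
    have hQU := thompson_PxQ (hP.map q) hQbc hPQ U (CfsgLib.isPGroup_pCore p)
      (by rw [Subgroup.normalizer_eq_top]; exact le_top) (by rw [Subgroup.normalizer_eq_top]; exact le_top)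
      (fun w hw y hy => by
        obtain ⟨hwU, hwc⟩ := hw
        rw [← map_centralizer_eq K (CfsgLib.card_pPrimeCore_coprime p) hP] at hwc
        obtain ⟨g, hg, rfl⟩ := hwc
        obtain ⟨_, ⟨z, hz, rfl⟩, rfl⟩ := hy
        have hgN : g ∈ N := Subgroup.mem_normalizer_iff.2 fun t => ⟨fun ht => by
          rwa [← hg t ht, mul_inv_cancel_right], fun ht => by
          have h := hg _ ht
          have h' : g * t * g⁻¹ = t := by
            have := congrArg (fun z => g⁻¹ * z) h
            simpa [mul_assoc] using this.symm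
          rwa [h'] at ht⟩
        have hm1 : q g * q z * (q g)⁻¹ * (q z)⁻¹ ∈ Qb := by
          refine Qb.mul_mem ?_ (Qb.inv_mem ⟨_, ⟨z, hz, rfl⟩, rfl⟩)
          rw [← map_mul, ← map_inv, ← map_mul]
          exact ⟨_, ⟨_, (inferInstance : (pPrimeCore p N).Normal).conj_mem z hz ⟨g, hgN⟩, rfl⟩, rfl⟩
        have hm2 : q g * q z * (q g)⁻¹ * (q z)⁻¹ ∈ U := by
          rw [mul_assoc (q g), mul_assoc (q g)]
          exact U.mul_mem hwU ((inferInstance : (pCore p (G ⧸ K)).Normal).conj_mem _ (U.inv_mem hwU) (q z))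
        obtain ⟨e, he⟩ := IsPGroup.iff_card.1 (CfsgLib.isPGroup_pCore p (G := G ⧸ K))
        have h3 := Subgroup.disjoint_def.1 (Subgroup.disjoint_of_coprime_natCard
          (by rw [he]; exact hQbc.pow_right e)) hm1 hm2
        rw [mul_inv_eq_one, mul_inv_eq_iff_eq_mul] at h3
        exact h3.symm)
    intro z hz
    have hzU := hc (hQU ⟨z, hz, rfl⟩)
    exact (QuotientGroup.eq_one_iff z).1 (eq_one_of_pPrime (CfsgLib.isPGroup_pCore p) hzU
      (hQbc.coprime_dvd_left (Subgroup.orderOf_dvd_natCard Qb ⟨z, hz, rfl⟩)))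
  · rintro z ⟨hzK, hzN⟩
    haveI : (K.subgroupOf N).Normal := inferInstance
    refine ⟨⟨z, hzN⟩, CfsgLib.le_pPrimeCore (N := K.subgroupOf N) ?_ hzK, rfl⟩
    rw [← Subgroup.card_map_of_injective N.subtype_injective, Subgroup.subgroupOf_map_subtype]
    exact (CfsgLib.card_pPrimeCore_coprime p).coprime_dvd_left (Subgroup.card_dvd_of_le inf_le_left)

/-- Constraint of a subgroup from constraint of its image. -/
theorem isPConstrained_subgroup {H : Subgroup G}
    (hker : pPrimeCore p H = (pPrimeCore p G).subgroupOf H)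
    (hY : Subgroup.centralizer (pCore p ↥(H.map (QuotientGroup.mk' (pPrimeCore p G))) :
        Set ↥(H.map (QuotientGroup.mk' (pPrimeCore p G)))) ≤ pCore p ↥(H.map (QuotientGroup.mk' (pPrimeCore p G)))) :
    IsPConstrained p H := by
  refine isPConstrained_of_quotient ?_
  set q := QuotientGroup.mk' (pPrimeCore p G)
  have hkf : pPrimeCore p H = (q.subgroupMap H).ker := by
    rw [hker]
    ext x
    show (x : G) ∈ pPrimeCore p G ↔ q.subgroupMap H x = 1
    rw [← QuotientGroup.eq_one_iff]
    exact ⟨fun h => Subtype.ext h, fun h => congrArg Subtype.val h⟩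
  let e : H ⧸ pPrimeCore p H ≃* H.map q := (QuotientGroup.quotientMulEquivOfEq hkf).trans
    (QuotientGroup.quotientKerEquivOfSurjective _ (q.subgroupMap_surjective H))
  intro x hx
  have h1 : e x ∈ pCore p (H.map q) := by
    refine hY fun y hy => ?_
    rw [SetLike.mem_coe, ← CfsgLib.pCore_map_equiv p e] at hy
    obtain ⟨z, hz, rfl⟩ := hy
    show e z * e x = e x * e z
    rw [← map_mul, ← map_mul, hx z hz]
  rw [← CfsgLib.pCore_map_equiv p e] at h1
  obtain ⟨z, hz, e'⟩ := h1
  rwa [← e.injective e']

theorem isPConstrained_normalizer_centralizer (hG : IsPConstrained p G) {P : Subgroup G} (hP : IsPGroup p P)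
    (hc : Subgroup.centralizer (pCore p (G ⧸ pPrimeCore p G) : Set (G ⧸ pPrimeCore p G)) ≤
      pCore p (G ⧸ pPrimeCore p G)) :
    IsPConstrained p ↥(Subgroup.normalizer (P : Set G)) ∧ IsPConstrained p ↥(Subgroup.centralizer (P : Set G)) := by
  set K := pPrimeCore p G with hK
  set N := Subgroup.normalizer (P : Set G) with hN
  set C := Subgroup.centralizer (P : Set G) with hC
  set q := QuotientGroup.mk' K with hq
  have hCN : C ≤ N := by
    intro g hg
    refine Subgroup.mem_normalizer_iff.2 fun t => ⟨fun ht => by rwa [← hg t ht, mul_inv_cancel_right], fun ht => ?_⟩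
    have h := hg _ ht
    have h' : g * t * g⁻¹ = t := by
      have := congrArg (fun z => g⁻¹ * z) h
      simpa [mul_assoc] using this.symm
    rwa [h'] at ht
  have hNO := pPrimeCore_normalizer hc hP
  have hNker : pPrimeCore p N = K.subgroupOf N := by
    apply Subgroup.map_injective N.subtype_injective
    rw [hNO, Subgroup.subgroupOf_map_subtype]
  haveI hCn : (C.subgroupOf N).Normal := ⟨fun c hc' n t ht => by
    have ht' := (Subgroup.mem_normalizer_iff.1 (N.inv_mem n.2) t).1 ht
    have := congrArg (fun z => (n : G) * z * (n : G)⁻¹) (hc' _ ht')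
    simpa [mul_assoc] using this⟩
  have hCker : pPrimeCore p C = K.subgroupOf C := by
    refine le_antisymm ?_ (CfsgLib.le_pPrimeCore ?_)
    · let e := Subgroup.subgroupOfEquivOfLe hCN
      set M := (pPrimeCore p (C.subgroupOf N)).map (C.subgroupOf N).subtype
      haveI : M.Normal := ConjAct.normal_of_characteristic_of_normal
      have hM : M ≤ pPrimeCore p N := CfsgLib.le_pPrimeCore (by
        rw [Subgroup.card_map_of_injective (C.subgroupOf N).subtype_injective]
        exact CfsgLib.card_pPrimeCore_coprime p)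
      intro z hz
      have hz' : e.symm z ∈ pPrimeCore p (C.subgroupOf N) := by
        haveI := (inferInstance : (pPrimeCore p C).Normal).map e.symm.toMonoidHom e.symm.surjective
        exact CfsgLib.le_pPrimeCore (N := (pPrimeCore p C).map e.symm.toMonoidHom) (by
          rw [Subgroup.card_map_of_injective e.symm.injective]
          exact CfsgLib.card_pPrimeCore_coprime p) ⟨z, hz, rfl⟩
      have h := hM ⟨e.symm z, hz', rfl⟩
      rw [hNker] at h
      exact h
    · rw [← Subgroup.card_map_of_injective C.subtype_injective, Subgroup.subgroupOf_map_subtype]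
      exact (CfsgLib.card_pPrimeCore_coprime p).coprime_dvd_left (Subgroup.card_dvd_of_le inf_le_left)
  have hYn : N.map q ≤ Subgroup.normalizer ((P.map q : Subgroup (G ⧸ K)) : Set (G ⧸ K)) :=
    Subgroup.le_normalizer_map q
  have hcen := map_centralizer_eq K (CfsgLib.card_pPrimeCore_coprime p) hP
  constructor
  · refine isPConstrained_subgroup hNker (centralizer_le_of_constrained hc (hP.map q) hYn ?_ fun c hcR => ?_)
    · rw [← hcen]
      exact inf_le_right.trans (Subgroup.map_mono hCN)
    · intro t ht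
      have htY : t ∈ N.map q := Subgroup.map_mono Subgroup.le_normalizer ht
      haveI : ((P.map q).subgroupOf (N.map q)).Normal :=
        (Subgroup.normal_subgroupOf_iff_le_normalizer (Subgroup.map_mono Subgroup.le_normalizer)).2 hYn
      have hR : (⟨t, htY⟩ : N.map q) ∈ pCore p (N.map q) :=
        CfsgLib.le_pCore (N := (P.map q).subgroupOf (N.map q)) ((hP.map q).comap_of_injective (N.map q).subtype (N.map q).subtype_injective) ht
      exact congrArg Subtype.val (hcR _ hR)
  · refine isPConstrained_subgroup hCker (centralizer_le_of_constrained hc (hP.map q)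
      ((Subgroup.map_mono hCN).trans hYn) ?_ fun c _ => ?_)
    · rw [← hcen]; exact inf_le_right
    · rw [← hcen]; exact c.2

end CfsgLib.PLocal
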