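import Cfsg.Agent.Lib.PLocal.StableQuad
import Cfsg.Agent.Lib.PLocal.MaxElemReplacement
import Cfsg.Agent.Lib.CoprimeGen

/-!
`W(S)` is normal in a `p`-stable group with `C_G(O_p(G)) ≤ O_p(G)`.
-/

set_option autoImplicit false
set_option linter.unusedSectionVars false

namespace CfsgLib.PLocal

open CfsgLib Cfsg
open scoped Pointwise commutatorElement

universe u
variable {G : Type u} [Group G] [Finite G] {p : ℕ} [Fact p.Prime]

theorem sectionKernel_isPGroup (hc : Subgroup.centralizer (pCore p G : Set G) ≤ pCore p G) :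
    IsPGroup p (sectionKernel (pCore p G) ((frattini ↥(pCore p G)).map (pCore p G).subtype)) := by
  have hP := (Fact.out : p.Prime)
  set Q := pCore p G
  set N := (frattini ↥Q).map Q.subtype
  have key : ∀ x ∈ sectionKernel Q N, (orderOf x).Coprime p → x = 1 := by
    intro x hx hox
    obtain ⟨e, he⟩ := IsPGroup.iff_card.1 (CfsgLib.isPGroup_pCore p (G := G))
    have hcop : (Nat.card (Subgroup.zpowers x)).Coprime p := by rw [Nat.card_zpowers]; exact hox
    have hA := CfsgLib.centralize_of_trivial_mod_frattini (A := Subgroup.zpowers x) (K := Q)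
      (by rw [Subgroup.normalizer_eq_top]; exact le_top)
      ((hcop.pow_right e).coprime_dvd_right (he ▸ Subgroup.card_subgroup_dvd_card (frattini Q)))
      fun a ha k hk => by
        have h := ((Subgroup.zpowers_le (H := sectionKernel Q N)).2 hx) ha _ ⟨k, hk, rfl⟩
        show a * k * a⁻¹ * k⁻¹ ∈ N
        rw [← QuotientGroup.eq_one_iff]
        show (QuotientGroup.mk' N a) * (QuotientGroup.mk' N k) * (QuotientGroup.mk' N a)⁻¹ * (QuotientGroup.mk' N k)⁻¹ = 1
        rw [← h]; group
    have hxQ : x ∈ Q := hc (hA (Subgroup.mem_zpowers x))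
    have hdvd : orderOf x ∣ p ^ e := he ▸ Subgroup.orderOf_dvd_natCard Q hxQ
    rw [← orderOf_eq_one_iff]
    exact Nat.dvd_one.1 ((hox.pow_right e) ▸ Nat.dvd_gcd dvd_rfl hdvd)
  rintro ⟨x, hx⟩
  obtain ⟨i, t, ht, hit⟩ := Nat.exists_eq_pow_mul_and_not_dvd (orderOf_pos x).ne' p hP.ne_one
  refine ⟨i, Subtype.ext ?_⟩
  show x ^ p ^ i = 1
  refine key _ (Subgroup.pow_mem _ hx _) ((hP.coprime_iff_not_dvd.2 ht).symm.coprime_dvd_left
    (orderOf_dvd_of_pow_eq_one ?_))
  rw [← pow_mul, ← hit]
  exact pow_orderOf_eq_one _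

/-- Quadratic action on `O_p(G)` in a stable group. -/
theorem mem_pCore_of_quad (hst : IsPStableOnSection p (pCore p G) ((frattini ↥(pCore p G)).map (pCore p G).subtype))
    (hc : Subgroup.centralizer (pCore p G : Set G) ≤ pCore p G) {a : G}
    (hq : ⁅⁅pCore p G, Subgroup.zpowers a⁆, Subgroup.zpowers a⁆ = ⊥) : a ∈ pCore p G := by
  obtain ⟨D, hDn, hle, ⟨k, hk⟩, haD⟩ := hst a (hq.le.trans bot_le)
  obtain ⟨j, hj⟩ := IsPGroup.iff_card.1 (sectionKernel_isPGroup hc)
  refine CfsgLib.le_pCore (IsPGroup.of_card (n := j + k) ?_) haD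
  have := Subgroup.relIndex_mul_relIndex ⊥ _ D bot_le hle
  rw [Subgroup.relIndex_bot_left, Subgroup.relIndex_bot_left, hj, hk] at this
  rw [← this, pow_add]

theorem exists_sylow_inf (S : Sylow p G) (C : Subgroup G) [C.Normal] :
    ∃ P : Sylow p C, (P : Subgroup C).map C.subtype = (S : Subgroup G) ⊓ C := by
  obtain ⟨P, hP⟩ := ((S.2.to_le inf_le_left).comap_of_injective C.subtype C.subtype_injective :
    IsPGroup p (((S : Subgroup G) ⊓ C).comap C.subtype)).exists_le_sylow
  refine ⟨P, ?_⟩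
  have hle : (S : Subgroup G) ⊓ C ≤ (P : Subgroup C).map C.subtype := fun x hx =>
    ⟨⟨x, hx.2⟩, hP hx, rfl⟩
  refine (Subgroup.eq_of_le_of_card_ge hle ?_).symm
  obtain ⟨S', hS'⟩ := (P.2.map C.subtype).exists_le_sylow
  obtain ⟨g, rfl⟩ := MulAction.exists_smul_eq G S S'
  refine (Subgroup.card_le_of_le (le_inf hS' (Subgroup.map_subtype_le _))).trans (le_of_eq ?_)
  have hCg : C.map (MulAut.conj g).toMonoidHom = C := Subgroup.Normal.map_conj_eq C g
  have e : ((g • S : Sylow p G) : Subgroup G) ⊓ C = ((S : Subgroup G) ⊓ C).map (MulAut.conj g).toMonoidHom := by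
    rw [Subgroup.map_inf _ _ _ (MulAut.conj g).injective, hCg]
    rfl
  rw [e]
  exact Subgroup.card_map_of_injective (MulAut.conj g).injective

theorem stableNormalClosure_normal (hst : IsActionPStable p G)
    (hc : Subgroup.centralizer (pCore p G : Set G) ≤ pCore p G) (S : Sylow p G) :
    ((stableNormalClosure p ↥(S : Subgroup G)).map (S : Subgroup G).subtype).Normal := by
  classical
  set W₀ := stableNormalClosure p ↥(S : Subgroup G) with hW₀
  set W := W₀.map (S : Subgroup G).subtype with hW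
  set J := thompsonSubgroupOf p (S : Subgroup G) with hJ
  set N := Subgroup.normalizer (J : Set G) with hN
  set Q := pCore p G
  obtain ⟨hVst, hsec, hJst⟩ := hst
  have hQS : Q ≤ (S : Subgroup G) := by
    rw [← S.3 ((CfsgLib.isPGroup_pCore p).to_sup_of_normal_left S.2) le_sup_right]
    exact le_sup_left
  have hWS : W ≤ (S : Subgroup G) := Subgroup.map_subtype_le _
  haveI hW₀c : W₀.Characteristic := stableNormalClosure_characteristic _
  have hSW : (S : Subgroup G) ≤ Subgroup.normalizer (W : Set G) :=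
    (CfsgLib.le_normalizer_map_characteristic (A := (S : Subgroup G)) Subgroup.le_normalizer W₀).2
  -- `W` is elementary abelian
  have hWel : IsElementaryAbelian p W := by
    have h0 : IsElementaryAbelian p W₀ := by
      obtain ⟨A, hA1, hA2⟩ := Set.exists_max_image {A : Subgroup (S : Subgroup G) | IsElementaryAbelian p A}
        (fun A => Nat.card A) (Set.toFinite _)
        ⟨⊥, inferInstance, fun a ha => by rw [Subgroup.mem_bot.1 ha, one_pow]⟩
      refine isElementaryAbelian_of_le hA1 ((stableNormalClosure_le S.2).trans ?_)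
      rw [← (Cfsg.Agent.S0655.result S.2).1]
      exact sInf_le ⟨hA1, hA2⟩
    obtain ⟨hc0, he0⟩ := h0
    refine ⟨inferInstance, ?_⟩
    rintro _ ⟨w, hw, rfl⟩
    rw [← map_pow, he0 w hw, map_one]
  -- `N_G(J(S))` normalises `W`
  have hJS : J ≤ (S : Subgroup G) := Subgroup.map_subtype_le _
  haveI hJc : (thompsonSubgroup p ↥(S : Subgroup G)).Characteristic :=
    Subgroup.characteristic_iff_map_eq.2 fun η => thompsonSubgroup_map η
  have hSN : (S : Subgroup G) ≤ N :=
    (CfsgLib.le_normalizer_map_characteristic (A := (S : Subgroup G)) Subgroup.le_normalizer _).2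
  set τ : ↥(S : Subgroup G) →* N := Subgroup.inclusion hSN
  have hτ : IsStableEmbedding p τ := by
    refine ⟨Subgroup.inclusion_injective hSN, inferInstance, ⟨S.subtype hSN, ?_⟩, ?_, ?_, fun V _ hV => ?_⟩
    · rw [Sylow.coe_subtype]
      exact (Subgroup.inclusion_range hSN).symm
    · intro x hx
      have hQN : Q.subgroupOf N ≤ pCore p N :=
        CfsgLib.le_pCore ((CfsgLib.isPGroup_pCore p).comap_of_injective N.subtype N.subtype_injective)
      refine hQN (hc fun q hq => ?_)
      exact congrArg Subtype.val (hx ⟨q, hSN (hQS hq)⟩ (hQN hq))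
    · have e : (thompsonSubgroup p ↥(S : Subgroup G)).map τ = J.subgroupOf N := by
        ext x
        constructor
        · rintro ⟨s, hs, rfl⟩; exact ⟨s, hs, rfl⟩
        · rintro ⟨s, hs, e⟩; exact ⟨s, hs, Subtype.ext e⟩
      rw [e]
      exact Subgroup.normal_in_normalizer
    · refine hJst S V ((Subgroup.map_mono hV).trans ?_)
      rw [Subgroup.map_map]
      rfl
  haveI hWn := stableNormalClosure_map_normal hτ ⟨_, omegaCenterThompson_mem S.2⟩
  have hNW : N ≤ Subgroup.normalizer (W : Set G) := by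
    intro g hg
    have h : ∀ n : N, ∀ w ∈ W, (n : G) * w * (n : G)⁻¹ ∈ W := by
      rintro n _ ⟨w, hw, rfl⟩
      obtain ⟨w', hw', e⟩ := hWn.conj_mem _ ⟨w, hw, rfl⟩ n
      exact ⟨w', hw', congrArg Subtype.val e⟩
    refine Subgroup.mem_normalizer_iff.2 fun w => ⟨h ⟨g, hg⟩ w, fun hw => ?_⟩
    simpa [mul_assoc] using h ⟨g⁻¹, N.inv_mem hg⟩ _ hw
  -- `W ≤ O_p(G)`
  have hWQ : W ≤ Q := by
    intro a ha
    refine mem_pCore_of_quad hsec hc ?_
    rw [Subgroup.commutator_eq_bot_iff_le_centralizer]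
    refine (?_ : ⁅Q, Subgroup.zpowers a⁆ ≤ W).trans fun w hw t ht => ?_
    · refine Subgroup.commutator_le.2 fun q hq t ht => ?_
      have htW : t ∈ W := (Subgroup.zpowers_le (H := W)).2 ha ht
      exact W.mul_mem ((Subgroup.mem_normalizer_iff.1 (hSW (hQS hq)) t).1 htW) (W.inv_mem htW)
    · haveI := hWel.1
      exact Subgroup.mul_comm_of_mem_isMulCommutative W ((Subgroup.zpowers_le (H := W)).2 ha ht) hw
  -- conjugates of `W` commute
  have hmapq : ∀ b : ↥(S : Subgroup G), ⁅⁅W, Subgroup.zpowers (b : G)⁆, Subgroup.zpowers (b : G)⁆ = ⊥ →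
      ∀ w ∈ W, w * b = b * w := by
    rintro b hb _ ⟨w, hw, rfl⟩
    have hb' : ⁅⁅W₀, Subgroup.zpowers b⁆, Subgroup.zpowers b⁆ = ⊥ := by
      rw [← Subgroup.map_eq_bot_iff_of_injective _ (S : Subgroup G).subtype_injective,
        Subgroup.map_commutator, Subgroup.map_commutator, MonoidHom.map_zpowers]
      exact hb
    exact congrArg Subtype.val (Subgroup.mem_centralizer_singleton_iff.1 (centralizes_of_quad S.2 hb' hw))
  have hconj : ∀ g : G, ∀ w ∈ W, ∀ v ∈ W, w * (g * v * g⁻¹) = g * v * g⁻¹ * w := by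
    intro g w hw v hv
    have haQ : g * v * g⁻¹ ∈ Q := (inferInstance : (pCore p G).Normal).conj_mem _ (hWQ hv) g
    refine hmapq ⟨_, hQS haQ⟩ ?_ w hw
    rw [Subgroup.commutator_eq_bot_iff_le_centralizer]
    set Wg := W.map (MulAut.conj g).toMonoidHom
    have haWg : g * v * g⁻¹ ∈ Wg := ⟨v, hv, rfl⟩
    refine (?_ : ⁅W, Subgroup.zpowers (g * v * g⁻¹)⁆ ≤ Wg).trans fun x hx t ht => ?_
    · refine Subgroup.commutator_le.2 fun q hq t ht => ?_
      obtain ⟨t', ht', rfl⟩ := (Subgroup.zpowers_le (H := Wg)).2 haWg ht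
      refine Wg.mul_mem ⟨g⁻¹ * q * g * t' * (g⁻¹ * q * g)⁻¹, ?_, ?_⟩ (Wg.inv_mem ⟨t', ht', rfl⟩)
      · have hq' : g⁻¹ * q * g ∈ Q := by
          simpa using (inferInstance : (pCore p G).Normal).conj_mem _ (hWQ hq) g⁻¹
        exact (Subgroup.mem_normalizer_iff.1 (hSW (hQS hq')) t').1 ht'
      · simp [mul_assoc]
    · haveI := hWel.1
      exact Subgroup.mul_comm_of_mem_isMulCommutative Wg ((Subgroup.zpowers_le (H := Wg)).2 haWg ht) hx
  set V := Subgroup.normalClosure (W : Set G) with hV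
  have hWV : W ≤ V := Subgroup.subset_normalClosure
  have hVQ : V ≤ Q := Subgroup.normalClosure_le_normal hWQ
  have hgen : ∀ x ∈ Group.conjugatesOfSet (W : Set G), ∀ y ∈ Group.conjugatesOfSet (W : Set G), x * y = y * x := by
    intro x hx y hy
    obtain ⟨w, hw, hxw⟩ := Group.mem_conjugatesOfSet_iff.1 hx
    obtain ⟨g₁, rfl⟩ := isConj_iff.1 hxw
    obtain ⟨v, hv, hyv⟩ := Group.mem_conjugatesOfSet_iff.1 hy
    obtain ⟨g₂, rfl⟩ := isConj_iff.1 hyv
    have h := congrArg (fun z => g₁ * z * g₁⁻¹) (hconj (g₁⁻¹ * g₂) w hw v hv)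
    simpa [mul_assoc] using h
  have hVel : IsElementaryAbelian p V := by
    haveI hVc : IsMulCommutative (Subgroup.closure (Group.conjugatesOfSet (W : Set G))) :=
      Subgroup.isMulCommutative_closure hgen
    refine ⟨hVc, fun a ha => ?_⟩
    induction ha using Subgroup.closure_induction with
    | mem y hy =>
      obtain ⟨w, hw, hyw⟩ := Group.mem_conjugatesOfSet_iff.1 hy
      obtain ⟨g, rfl⟩ := isConj_iff.1 hyw
      rw [conj_pow, hWel.2 w hw, mul_one, mul_inv_cancel]
    | one => exact one_pow _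
    | mul y z hy hz h1 h2 =>
      rw [(show Commute y z from Subgroup.mul_comm_of_mem_isMulCommutative _ hy hz).mul_pow, h1, h2, one_mul]
    | inv y _ h1 => rw [inv_pow, h1, inv_one]
  -- quadratic elements centralise `V`
  set C := Subgroup.centralizer (V : Set G) with hC
  have hquad : ∀ b : G, ⁅⁅V, Subgroup.zpowers b⁆, Subgroup.zpowers b⁆ = ⊥ → b ∈ C := by
    intro b hb
    have hcen : V ≤ Subgroup.centralizer ({b} : Set G) := by
      refine (Subgroup.closure_le _).2 fun x hx => ?_
      obtain ⟨w, hw, hxw⟩ := Group.mem_conjugatesOfSet_iff.1 hx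
      obtain ⟨g, rfl⟩ := isConj_iff.1 hxw
      refine Subgroup.mem_centralizer_singleton_iff.2 ?_
      set h := g⁻¹ * b * g⁻¹⁻¹ with hh
      have hhq := quad_conj g⁻¹ hb
      have hout := hVst V hVel h hhq
      let P' := S.mapSurjective (QuotientGroup.mk'_surjective (Subgroup.centralizer (V : Set G)))
      have hle : pCore p (G ⧸ Subgroup.centralizer (V : Set G)) ≤ (P' : Subgroup _) := by
        rw [← P'.3 ((CfsgLib.isPGroup_pCore p).to_sup_of_normal_left P'.2) le_sup_right]
        exact le_sup_left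
      obtain ⟨s, hs, es⟩ := hle hout
      have hsq := quad_congr (V := V) (s := s) (h := h) es hhq
      have hsW := hmapq ⟨s, hs⟩ (le_bot_iff.1 ((Subgroup.commutator_mono (Subgroup.commutator_mono hWV le_rfl)
        le_rfl).trans hsq.le)) w hw
      have es' : (QuotientGroup.mk s : G ⧸ Subgroup.centralizer (V : Set G)) = QuotientGroup.mk h := es
      have hz : s⁻¹ * h ∈ Subgroup.centralizer (V : Set G) := QuotientGroup.eq.1 es'
      have hhw : h * w = w * h := by
        calc h * w = s * ((s⁻¹ * h) * w) := by group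
          _ = s * (w * (s⁻¹ * h)) := by rw [hz w (hWV hw)]
          _ = s * w * (s⁻¹ * h) := by group
          _ = w * s * (s⁻¹ * h) := by rw [show s * w = w * s from hsW.symm]
          _ = w * h := by group
      calc g * w * g⁻¹ * b = g * (w * h) * g⁻¹ := by rw [hh]; group
        _ = g * (h * w) * g⁻¹ := by rw [hhw]
        _ = b * (g * w * g⁻¹) := by rw [hh]; group
    exact fun v hv => (Subgroup.mem_centralizer_singleton_iff.1 (hcen hv))
  -- `J(S) ≤ C_G(V)`
  haveI hVn : (V.subgroupOf (S : Subgroup G)).Normal := (inferInstance : V.Normal).subgroupOf _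
  set Vs := V.subgroupOf (S : Subgroup G)
  have hVmap : Vs.map (S : Subgroup G).subtype = V := by
    rw [Subgroup.subgroupOf_map_subtype, inf_eq_left.2 (hVQ.trans hQS)]
  have hVs : IsElementaryAbelian p Vs := by
    obtain ⟨hc1, he1⟩ := hVel
    exact ⟨⟨⟨fun a b => Subtype.ext (Subtype.ext (Subgroup.mul_comm_of_mem_isMulCommutative V a.2 b.2))⟩⟩,
      fun a ha => Subtype.ext (by simpa using he1 _ ha)⟩
  have hJC : J ≤ C := by
    rw [hJ, thompsonSubgroupOf, Subgroup.map_le_iff_le_comap]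
    refine sSup_le fun A hA => ?_
    have hAbot : ⁅Vs, A⁆ = ⊥ := by
      by_contra hne
      obtain ⟨hA₀, hq⟩ := maxElementary_replacement hVs hA
      have hne' := maxElementary_replacement_ne hVs hA hne
      set A₀ := ⁅Vs, A⁆ ⊔ (A ⊓ Subgroup.centralizer ((⁅Vs, A⁆ : Subgroup _) : Set _))
      apply hne'
      rw [Subgroup.commutator_eq_bot_iff_le_centralizer]
      intro v hv b hb
      have hbq : ⁅⁅V, Subgroup.zpowers (b : G)⁆, Subgroup.zpowers (b : G)⁆ = ⊥ := by
        rw [← hVmap, show Subgroup.zpowers (b : G) = (Subgroup.zpowers b).map (S : Subgroup G).subtype from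
          ((S : Subgroup G).subtype.map_zpowers b).symm, ← Subgroup.map_commutator, ← Subgroup.map_commutator,
          Subgroup.map_eq_bot_iff_of_injective _ (S : Subgroup G).subtype_injective]
        have hzb : Subgroup.zpowers b ≤ A₀ := Subgroup.zpowers_le.2 hb
        exact le_bot_iff.1 ((Subgroup.commutator_mono (Subgroup.commutator_mono le_rfl hzb) hzb).trans hq.le)
      exact Subtype.ext (hquad b hbq v hv).symm
    rw [Subgroup.commutator_eq_bot_iff_le_centralizer] at hAbot
    intro a ha v hv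
    have hvS := hVQ.trans hQS hv
    exact congrArg Subtype.val (hAbot (show (⟨v, hvS⟩ : ↥(S : Subgroup G)) ∈ Vs from hv) a ha).symm
  -- Frattini argument
  obtain ⟨P, hP⟩ := exists_sylow_inf S C
  have hfr := Sylow.normalizer_sup_eq_top P
  rw [hP] at hfr
  have hJeq : Subgroup.normalizer (((S : Subgroup G) ⊓ C : Subgroup G) : Set G) ≤ N := by
    intro g hg
    have hmove : ∀ g ∈ Subgroup.normalizer (((S : Subgroup G) ⊓ C : Subgroup G) : Set G),
        ∀ x ∈ J, g * x * g⁻¹ ∈ J := by
      intro g hg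
      suffices hle : J ≤ J.comap (MulAut.conj g).toMonoidHom from fun x hx => hle hx
      rw [hJ, thompsonSubgroupOf, Subgroup.map_le_iff_le_comap]
      refine sSup_le fun A hA a ha => ?_
      have hAC : ∀ x ∈ A, (x : G) ∈ ((S : Subgroup G) ⊓ C : Subgroup G) := fun x hx =>
        ⟨x.2, hJC ⟨x, le_sSup hA hx, rfl⟩⟩
      have hin : ∀ x ∈ A, g * (x : G) * g⁻¹ ∈ (S : Subgroup G) := fun x hx =>
        ((Subgroup.mem_normalizer_iff.1 hg (x : G)).1 (hAC x hx)).1
      let f : A →* ↥(S : Subgroup G) := MonoidHom.mk' (fun x => ⟨g * x.1 * g⁻¹, hin x.1 x.2⟩)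
        fun x y => Subtype.ext (by simp [mul_assoc])
      have hfi : Function.Injective f := fun x y h => by
        have := congrArg Subtype.val h
        exact Subtype.ext (Subtype.ext (by simpa [f] using this))
      have hmax : f.range ∈ maxElementaryAbelianSubgroups p ↥(S : Subgroup G) := by
        haveI := hA.1.1
        refine ⟨⟨⟨⟨fun x y => ?_⟩⟩, ?_⟩, fun B hB => ?_⟩
        · obtain ⟨x₀, hx₀⟩ := x.2
          obtain ⟨y₀, hy₀⟩ := y.2
          apply Subtype.ext
          show (x : ↥(S : Subgroup G)) * y = y * x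
          rw [← hx₀, ← hy₀, ← map_mul, ← map_mul, mul_comm']
        · rintro _ ⟨x, rfl⟩
          rw [← map_pow, show x ^ p = 1 from Subtype.ext (by simpa using hA.1.2 x x.2), map_one]
        · rw [← MonoidHom.ofInjective hfi |>.toEquiv |> Nat.card_congr]
          exact hA.2 B hB
      exact ⟨f ⟨a, ha⟩, le_sSup hmax ⟨_, rfl⟩, rfl⟩
    refine Subgroup.mem_normalizer_iff.2 fun x => ⟨hmove g hg x, fun hx => ?_⟩
    simpa [mul_assoc] using hmove g⁻¹ (inv_mem hg) _ hx
  have hCW : C ≤ Subgroup.normalizer (W : Set G) := fun c hc' => by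
    have hfix : ∀ x ∈ W, c * x * c⁻¹ = x := fun x hx => by rw [← hc' x (hWV hx), mul_inv_cancel_right]
    refine Subgroup.mem_normalizer_iff.2 fun x => ⟨fun hx => by rwa [hfix x hx], fun hx => ?_⟩
    have h := hfix _ hx
    have : c * x * c⁻¹ = x := by
      have h2 := congrArg (fun z => c⁻¹ * z * c) h
      simpa [mul_assoc] using h2
    rwa [this] at hx
  rw [← Subgroup.normalizer_eq_top_iff, eq_top_iff, ← hfr]
  exact sup_le (hJeq.trans hNW) hCW

end CfsgLib.PLocal
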