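import Mathlib
import Cfsg.Agent.Lib.PLocal.ConstrainedLocal
import Cfsg.Agent.Lib.Transitivity

/-!
`p`-constraint of all `p`-locals from the maximal ones or from the centralisers of elements of order `p`.
-/

set_option autoImplicit false
set_option linter.unusedSectionVars false

namespace CfsgLib.PLocal

open CfsgLib Cfsg

universe u
variable {G : Type u} [Group G] [Finite G] {p : ℕ} [Fact p.Prime]

theorem isPConstrained_transport {X Y : Type u} [Group X] [Group Y] [Finite X] (e : X ≃* Y)
    (h : IsPConstrained p X) : IsPConstrained p Y := by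
  haveI : Finite Y := Finite.of_equiv X e.toEquiv
  haveI : (pPrimeCore p X).Normal := inferInstance
  have h0 : Subgroup.centralizer (pCore p (X ⧸ pPrimeCore p X) : Set (X ⧸ pPrimeCore p X)) ≤
      pCore p (X ⧸ pPrimeCore p X) := by
    intro z hz
    exact (CfsgLib.Transitivity.centralizer_pCore_quotient_le h) hz
  have hmap : (pPrimeCore p X).map e.toMonoidHom = pPrimeCore p Y := by
    refine le_antisymm ?_ fun y hy => ⟨e.symm y, ?_, e.apply_symm_apply y⟩
    · exact le_pPrimeCore (hN := Subgroup.Normal.map inferInstance _ e.surjective)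
        (by rw [Subgroup.card_map_of_injective e.injective]; exact card_pPrimeCore_coprime p)
    · exact le_pPrimeCore (N := (pPrimeCore p Y).map e.symm.toMonoidHom)
        (hN := Subgroup.Normal.map inferInstance _ e.symm.surjective)
        (by rw [Subgroup.card_map_of_injective e.symm.injective]; exact card_pPrimeCore_coprime p) ⟨y, hy, rfl⟩
  set f := QuotientGroup.congr _ _ e hmap
  refine isPConstrained_of_quotient fun y hy => ?_
  obtain ⟨x, rfl⟩ := f.surjective y
  have hc : x ∈ pCore p (X ⧸ pPrimeCore p X) := by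
    refine h0 fun z hz => f.injective ?_
    rw [map_mul, map_mul]
    exact hy _ ((pCore_map_equiv p f).le ⟨z, hz, rfl⟩)
  exact (pCore_map_equiv p f).le ⟨x, hc, rfl⟩

/-- Constraint passes from `C_G(T)` to `N_G(T)`. -/
theorem isPConstrained_normalizer_of_centralizer {T : Subgroup G} (hT : IsPGroup p T)
    (hC : IsPConstrained p ↥(Subgroup.centralizer (T : Set G))) :
    IsPConstrained p ↥(Subgroup.normalizer (T : Set G)) := by
  set N := Subgroup.normalizer (T : Set G) with hN
  set Tn := T.subgroupOf N with hTn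
  haveI : Tn.Normal := ⟨fun t ht n => (Subgroup.mem_normalizer_iff.1 n.2 _).1 ht⟩
  have hTp : IsPGroup p Tn := hT.of_equiv (Subgroup.subgroupOfEquivOfLe Subgroup.le_normalizer).symm
  set C := Subgroup.centralizer (Tn : Set N) with hCdef
  haveI : C.Normal := Subgroup.normal_centralizer ..
  have hCe : C = (Subgroup.centralizer (T : Set G)).subgroupOf N := by
    ext c
    exact ⟨fun h t ht => congrArg Subtype.val (h ⟨t, Subgroup.le_normalizer ht⟩ ht),
      fun h t ht => Subtype.ext (h t ht)⟩
  have hCc : IsPConstrained p ↥C := isPConstrained_transport ((MulEquiv.subgroupCongr hCe).trans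
    (Subgroup.subgroupOfEquivOfLe (Subgroup.centralizer_le_normalizer (T : Set G)))).symm hC
  set O := pPrimeCore p N with hO
  set π := QuotientGroup.mk' O
  -- `O_{p'}(N) ≤ C`
  have hOC : O ≤ C := by
    intro o ho t ht
    have h1 : t * o * t⁻¹ * o⁻¹ ∈ Tn ⊓ O := by
      refine Subgroup.mem_inf.2 ⟨?_, mul_mem ((inferInstance : O.Normal).conj_mem o ho t) (inv_mem ho)⟩
      rw [show t * o * t⁻¹ * o⁻¹ = t * (o * t⁻¹ * o⁻¹) by group]
      exact mul_mem ht ((inferInstance : Tn.Normal).conj_mem _ (inv_mem ht) o)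
    have hb : Tn ⊓ O = ⊥ := by
      obtain ⟨k, hk⟩ := IsPGroup.iff_card.1 hTp
      refine Subgroup.inf_eq_bot_of_coprime ?_
      rw [hk]
      exact ((card_pPrimeCore_coprime p (G := N)).pow_right k).symm
    rw [hb, Subgroup.mem_bot, mul_inv_eq_one, mul_inv_eq_iff_eq_mul] at h1
    exact h1
  have hOC' : pPrimeCore p C = O.subgroupOf C := by
    refine le_antisymm (fun x hx => ?_) (le_pPrimeCore ?_)
    · haveI : ((pPrimeCore p C).map C.subtype).Normal := ConjAct.normal_of_characteristic_of_normal
      exact le_pPrimeCore (N := (pPrimeCore p C).map C.subtype)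
        (by rw [Subgroup.card_map_of_injective C.subtype_injective]; exact card_pPrimeCore_coprime p) ⟨x, hx, rfl⟩
    · rw [Nat.card_congr (Subgroup.subgroupOfEquivOfLe hOC).toEquiv]
      exact card_pPrimeCore_coprime p
  refine isPConstrained_of_quotient fun y hy => ?_
  have hTmap : Tn.map π ≤ pCore p (N ⧸ O) :=
    le_pCore (hN := Subgroup.Normal.map inferInstance π (QuotientGroup.mk'_surjective O)) (hTp.map π)
  have hyC : y ∈ C.map π := by
    rw [hCdef, map_centralizer_eq O (card_pPrimeCore_coprime p) hTp]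
    exact fun t ht => hy t (hTmap ht)
  obtain ⟨c, hc, rfl⟩ := hyC
  let f : ↥C →* N ⧸ O := π.comp C.subtype
  set j := QuotientGroup.map (pPrimeCore p C) O C.subtype (fun x hx => by
    rw [hOC'] at hx; exact hx) with hj
  have hji : Function.Injective j := by
    rw [injective_iff_map_eq_one]
    intro q hq
    obtain ⟨x, rfl⟩ := QuotientGroup.mk_surjective q
    rw [QuotientGroup.eq_one_iff, hOC']
    exact (QuotientGroup.eq_one_iff (x : N)).1 hq
  have hjr : j.range = C.map π := by
    ext z
    constructor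
    · rintro ⟨q, rfl⟩
      obtain ⟨x, rfl⟩ := QuotientGroup.mk_surjective q
      exact ⟨x, x.2, rfl⟩
    · rintro ⟨x, hx, rfl⟩
      exact ⟨QuotientGroup.mk ⟨x, hx⟩, rfl⟩
  haveI : (C.map π).Normal := Subgroup.Normal.map inferInstance π (QuotientGroup.mk'_surjective O)
  have hle : (pCore p (↥C ⧸ pPrimeCore p C)).map j ≤ pCore p (N ⧸ O) := by
    have e : (pCore p (↥C ⧸ pPrimeCore p C)).map j =
        ((pCore p (↥C ⧸ pPrimeCore p C)).map j.rangeRestrict).map j.range.subtype := by
      rw [Subgroup.map_map, MonoidHom.subtype_comp_rangeRestrict]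
    haveI : j.range.Normal := hjr ▸ inferInstance
    let e' : (↥C ⧸ pPrimeCore p C) ≃* j.range := MonoidHom.ofInjective hji
    have he : (pCore p (↥C ⧸ pPrimeCore p C)).map j.rangeRestrict = pCore p j.range :=
      pCore_map_equiv p e'
    rw [e, he]
    haveI : ((pCore p j.range).map j.range.subtype).Normal := ConjAct.normal_of_characteristic_of_normal
    exact le_pCore ((isPGroup_pCore p).map _)
  exact hle ⟨QuotientGroup.mk ⟨c, hc⟩, CfsgLib.Transitivity.centralizer_pCore_quotient_le hCc (fun z hz => hji (by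
    rw [map_mul, map_mul]
    exact hy _ (hle ⟨z, hz, rfl⟩))), rfl⟩

theorem isPConstrained_all_locals
    (h : (∀ M : Subgroup G, (∃ T : Subgroup G, IsPGroup p ↥T ∧ T ≠ ⊥ ∧ M = Subgroup.normalizer (T : Set G)) → M ≠ ⊤ →
        (∀ M' : Subgroup G, (∃ T' : Subgroup G, IsPGroup p ↥T' ∧ T' ≠ ⊥ ∧ M' = Subgroup.normalizer (T' : Set G)) → M' ≠ ⊤ → M ≤ M' → M = M') →
        IsPConstrained p ↥M) ∨
      (∀ x : G, orderOf x = p → IsPConstrained p ↥(Subgroup.centralizer ({x} : Set G))))
    {T : Subgroup G} (hT : IsPGroup p ↥T) (hT1 : T ≠ ⊥) (hTG : Subgroup.normalizer (T : Set G) ≠ ⊤) :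
    IsPConstrained p ↥(Subgroup.normalizer (T : Set G)) := by
  set N := Subgroup.normalizer (T : Set G) with hN
  rcases h with h | h
  · obtain ⟨M, ⟨hML, hMtop, hNM⟩, hmax⟩ := Set.exists_max_image
      {M : Subgroup G | (∃ T' : Subgroup G, IsPGroup p ↥T' ∧ T' ≠ ⊥ ∧ M = Subgroup.normalizer (T' : Set G)) ∧ M ≠ ⊤ ∧ N ≤ M}
      (fun M => Nat.card M) (Set.toFinite _) ⟨N, ⟨T, hT, hT1, rfl⟩, hTG, le_rfl⟩
    have hMc : IsPConstrained p ↥M := h M hML hMtop fun M' hM' hM't hle =>
      Subgroup.eq_of_le_of_card_ge hle (hmax M' ⟨hM', hM't, hNM.trans hle⟩)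
    have hTM : T ≤ M := Subgroup.le_normalizer.trans hNM
    have h1 := (isPConstrained_normalizer_centralizer hMc (P := T.subgroupOf M)
      (hT.of_equiv (Subgroup.subgroupOfEquivOfLe hTM).symm) (CfsgLib.Transitivity.centralizer_pCore_quotient_le hMc)).1
    have e : Subgroup.normalizer ((T.subgroupOf M : Subgroup M) : Set M) = N.subgroupOf M := by
      ext m
      rw [Subgroup.mem_subgroupOf, hN, Subgroup.mem_normalizer_iff, Subgroup.mem_normalizer_iff]
      constructor
      · intro h t
        constructor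
        · intro ht
          exact (h ⟨t, hTM ht⟩).1 ht
        · intro ht
          have hmem : t ∈ M := by simpa [mul_assoc] using mul_mem (mul_mem (M.inv_mem m.2) (hTM ht)) m.2
          exact (h ⟨t, hmem⟩).2 ht
      · exact fun h t => h t
    exact isPConstrained_transport ((MulEquiv.subgroupCongr e).trans (Subgroup.subgroupOfEquivOfLe hNM)) h1
  · haveI : Nontrivial T := (Subgroup.nontrivial_iff_ne_bot T).2 hT1
    obtain ⟨z, hz⟩ := exists_prime_orderOf_dvd_card' (G := Subgroup.center T) p (by
      haveI : Nontrivial (Subgroup.center T) := hT.center_nontrivial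
      obtain ⟨n, hn, hn'⟩ := (hT.to_subgroup (Subgroup.center T)).nontrivial_iff_card.1 inferInstance
      rw [hn']; exact dvd_pow_self p hn.ne')
    set x : G := ((z : T) : G) with hx
    have hxo : orderOf x = p := by rw [hx, Subgroup.orderOf_coe, Subgroup.orderOf_coe, hz]
    set C := Subgroup.centralizer ({x} : Set G) with hC
    have hTC : T ≤ C := fun t ht => Subgroup.mem_centralizer_singleton_iff.2
      (congrArg Subtype.val (Subgroup.mem_center_iff.1 z.2 ⟨t, ht⟩))
    have hCC : Subgroup.centralizer (T : Set G) ≤ C := fun c hc =>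
      Subgroup.mem_centralizer_singleton_iff.2 (hc x (z : T).2).symm
    have h1 := (isPConstrained_normalizer_centralizer (h x hxo) (P := T.subgroupOf C)
      (hT.of_equiv (Subgroup.subgroupOfEquivOfLe hTC).symm) (CfsgLib.Transitivity.centralizer_pCore_quotient_le (h x hxo))).2
    have e : Subgroup.centralizer ((T.subgroupOf C : Subgroup C) : Set C) = (Subgroup.centralizer (T : Set G)).subgroupOf C := by
      ext c
      exact ⟨fun h t ht => congrArg Subtype.val (h ⟨t, hTC ht⟩ ht), fun h t ht => Subtype.ext (h t ht)⟩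
    exact isPConstrained_normalizer_of_centralizer hT
      (isPConstrained_transport ((MulEquiv.subgroupCongr e).trans (Subgroup.subgroupOfEquivOfLe hCC)) h1)

end CfsgLib.PLocal
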