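import Mathlib

/-!
Commutators with a group centralising the derived subgroup.
-/

set_option autoImplicit false
set_option linter.unusedSectionVars false

namespace CfsgLib.PLocal

open scoped commutatorElement

variable {G : Type*} [Group G] {A B : Subgroup G}

theorem commutator_le_left_of_normalizer (hAB : A ≤ Subgroup.normalizer (B : Set G)) : ⁅B, A⁆ ≤ B :=
  Subgroup.commutator_le.2 fun b hb a ha => by
    rw [commutatorElement_def, mul_assoc b, mul_assoc b]
    exact B.mul_mem hb ((Subgroup.mem_normalizer_iff.1 (hAB ha) _).1 (B.inv_mem hb))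

theorem commute_derived (hc : ⁅⁅B, B⁆, A⁆ = ⊥) : ⁅⁅B, A⁆, ⁅B, B⁆⁆ = ⊥ := by
  refine Subgroup.commutator_commutator_eq_bot_of_rotate ?_ ?_
  · rw [Subgroup.commutator_comm A, hc, Subgroup.commutator_bot_left]
  · refine le_bot_iff.1 ((Subgroup.commutator_mono ?_ le_rfl).trans hc.le)
    exact Subgroup.commutator_mono (Subgroup.commutator_le_self B) le_rfl

theorem derived_commutator_central (hAB : A ≤ Subgroup.normalizer (B : Set G)) (hc : ⁅⁅B, B⁆, A⁆ = ⊥) :
    ⁅⁅B, A⁆, ⁅B, A⁆⁆ ≤ B ⊓ Subgroup.centralizer (B : Set G) := by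
  have hW := commutator_le_left_of_normalizer hAB
  refine le_inf ((Subgroup.commutator_mono hW hW).trans (Subgroup.commutator_le_self B)) ?_
  rw [← Subgroup.commutator_eq_bot_iff_le_centralizer]
  have h := commute_derived hc
  refine Subgroup.commutator_commutator_eq_bot_of_rotate ?_ ?_
  · refine le_bot_iff.1 ((Subgroup.commutator_mono (Subgroup.commutator_mono hW le_rfl) le_rfl).trans ?_)
    rw [Subgroup.commutator_comm, h]
  · refine le_bot_iff.1 ((Subgroup.commutator_mono (Subgroup.commutator_mono le_rfl hW) le_rfl).trans ?_)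
    rw [Subgroup.commutator_comm, h]

theorem derived_sq_eq_one (hAB : A ≤ Subgroup.normalizer (B : Set G)) (hc : ⁅⁅B, B⁆, A⁆ = ⊥)
    (hA : IsMulCommutative A) {b : G} (hb : b ∈ B)
    (hq : ⁅⁅(Subgroup.closure {g : G | ∃ a ∈ A, g = b⁻¹ * a * b * a⁻¹}), A⁆, A⁆ = ⊥) :
    ∀ w ∈ ⁅(Subgroup.closure {g : G | ∃ a ∈ A, g = b⁻¹ * a * b * a⁻¹}),
      (Subgroup.closure {g : G | ∃ a ∈ A, g = b⁻¹ * a * b * a⁻¹})⁆, w ^ 2 = 1 := by
  set U := Subgroup.closure {g : G | ∃ a ∈ A, g = b⁻¹ * a * b * a⁻¹} with hUd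
  set W := ⁅B, A⁆ with hWd
  let f : G → G := fun a => b⁻¹ * a * b * a⁻¹
  have hfW : ∀ a ∈ A, f a ∈ W := fun a ha => by
    have := Subgroup.commutator_mem_commutator (B.inv_mem hb) ha
    simpa [f, commutatorElement_def] using this
  have hUW : U ≤ W := (Subgroup.closure_le _).2 (by rintro _ ⟨a, ha, rfl⟩; exact hfW a ha)
  have hfU : ∀ a ∈ A, f a ∈ U := fun a ha => Subgroup.subset_closure ⟨a, ha, rfl⟩
  have hWB : W ≤ B := commutator_le_left_of_normalizer hAB
  have hAW : A ≤ Subgroup.normalizer (W : Set G) := Subgroup.normalizer_commutator_ge_right _ _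
  have hder : ∀ x ∈ B, ∀ y ∈ B, ∀ a ∈ A, a * ⁅x, y⁆ * a⁻¹ = ⁅x, y⁆ := fun x hx y hy a ha => by
    have h := Subgroup.commutator_mem_commutator (Subgroup.commutator_mem_commutator hx hy) ha
    rw [hc, Subgroup.mem_bot, commutatorElement_eq_one_iff_mul_comm] at h
    rw [← h, mul_inv_cancel_right]
  have hWder : ∀ x ∈ B, ∀ y ∈ B, ∀ w ∈ W, w * ⁅x, y⁆ = ⁅x, y⁆ * w := fun x hx y hy w hw => by
    have h := Subgroup.commutator_mem_commutator hw (Subgroup.commutator_mem_commutator hx hy)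
    rwa [commute_derived hc, Subgroup.mem_bot, commutatorElement_eq_one_iff_mul_comm] at h
  have hcen := derived_commutator_central hAB hc
  let g : G → G → G := fun a a' => a * f a' * a⁻¹ * (f a')⁻¹
  have hgW : ∀ a ∈ A, ∀ a' ∈ A, g a a' ∈ W := fun a ha a' ha' =>
    W.mul_mem ((Subgroup.mem_normalizer_iff.1 (hAW ha) _).1 (hfW a' ha')) (W.inv_mem (hfW a' ha'))
  have hgfix : ∀ a ∈ A, ∀ a' ∈ A, ∀ x ∈ A, x * g a a' * x⁻¹ = g a a' := by
    intro a ha a' ha' x hx
    have h1 : g a a' ∈ ⁅U, A⁆ := by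
      have := inv_mem (Subgroup.commutator_mem_commutator (hfU a' ha') ha)
      simpa [g, commutatorElement_def, mul_assoc] using this
    have h := Subgroup.commutator_mem_commutator h1 hx
    rw [hq, Subgroup.mem_bot, commutatorElement_eq_one_iff_mul_comm] at h
    rw [← h, mul_inv_cancel_right]
  -- fixed elements of `W` commute with `U`
  have hfix : ∀ t ∈ W, (∀ x ∈ A, x * t * x⁻¹ = t) → ∀ a ∈ A, t * f a = f a * t := by
    intro t ht htA a ha
    rw [← commutatorElement_eq_one_iff_mul_comm]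
    have h1 : ⁅t, a * b * a⁻¹⁆ = ⁅t, b⁆ := by
      conv_lhs => rw [← htA a ha]
      rw [show ⁅a * t * a⁻¹, a * b * a⁻¹⁆ = a * ⁅t, b⁆ * a⁻¹ by simp only [commutatorElement_def]; group]
      exact hder t (hWB ht) b hb a ha
    rw [show f a = b⁻¹ * (a * b * a⁻¹) by simp only [f]; group,
      show ⁅t, b⁻¹ * (a * b * a⁻¹)⁆ = ⁅t, b⁻¹⁆ * (b⁻¹ * ⁅t, a * b * a⁻¹⁆ * b) by
        simp only [commutatorElement_def]; group, h1]
    simp only [commutatorElement_def]; group
  have hkey : ∀ a ∈ A, ∀ a' ∈ A, ⁅f a, f a'⁆ = b⁻¹ * (g a' a)⁻¹ * b * g a' a ∧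
      ⁅f a, f a'⁆ * g a a' = g a' a := by
    intro a ha a' ha'
    have haB := hWB (hfW a ha)
    set z := g a' a with hz
    constructor
    · have h1 : ⁅f a, a' * b * a'⁻¹⁆ = ⁅f a, b⁆ * ⁅z⁻¹, b⁆ := by
        have e : f a = z⁻¹ * (a' * f a * a'⁻¹) := by simp only [hz, g]; group
        have hxW : a' * f a * a'⁻¹ ∈ W := (Subgroup.mem_normalizer_iff.1 (hAW ha') _).1 (hfW a ha)
        have hb' : a' * b * a'⁻¹ ∈ B := (Subgroup.mem_normalizer_iff.1 (hAB ha') _).1 hb
        have hzb : ⁅z⁻¹, a' * b * a'⁻¹⁆ = ⁅z⁻¹, b⁆ := by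
          conv_lhs => rw [← show a' * z * a'⁻¹ = z from hgfix a' ha' a ha a' ha']
          rw [show ⁅(a' * z * a'⁻¹)⁻¹, a' * b * a'⁻¹⁆ = a' * ⁅z⁻¹, b⁆ * a'⁻¹ by
            simp only [commutatorElement_def]; group]
          exact hder _ (B.inv_mem (hWB (hgW a' ha' a ha))) b hb a' ha'
        have hxb : ⁅a' * f a * a'⁻¹, a' * b * a'⁻¹⁆ = ⁅f a, b⁆ := by
          rw [show ⁅a' * f a * a'⁻¹, a' * b * a'⁻¹⁆ = a' * ⁅f a, b⁆ * a'⁻¹ by
            simp only [commutatorElement_def]; group]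
          exact hder _ haB b hb a' ha'
        conv_lhs => rw [e]
        rw [show ⁅z⁻¹ * (a' * f a * a'⁻¹), a' * b * a'⁻¹⁆ =
          z⁻¹ * ⁅a' * f a * a'⁻¹, a' * b * a'⁻¹⁆ * z * ⁅z⁻¹, a' * b * a'⁻¹⁆ by
            simp only [commutatorElement_def]; group, hxb, hzb,
          hWder _ haB b hb z⁻¹ (W.inv_mem (hgW a' ha' a ha)), inv_mul_cancel_right]
      rw [show f a' = b⁻¹ * (a' * b * a'⁻¹) by simp only [f]; group,
        show ⁅f a, b⁻¹ * (a' * b * a'⁻¹)⁆ = ⁅f a, b⁻¹⁆ * (b⁻¹ * ⁅f a, a' * b * a'⁻¹⁆ * b) by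
          simp only [commutatorElement_def]; group, h1]
      simp only [commutatorElement_def]; group
    · have hza : z * f a = f a * z := hfix z (hgW a' ha' a ha) (hgfix a' ha' a ha) a ha
      have hza' : z * f a' = f a' * z := hfix z (hgW a' ha' a ha) (hgfix a' ha' a ha) a' ha'
      have hwa' : g a a' * f a' = f a' * g a a' := hfix _ (hgW a ha a' ha') (hgfix a ha a' ha') a' ha'
      have hwa : g a a' * f a = f a * g a a' := hfix _ (hgW a ha a' ha') (hgfix a ha a' ha') a ha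
      have hab : a * a' = a' * a := Subgroup.mul_comm_of_mem_isMulCommutative A ha ha'
      have heq : f a * (g a a' * f a') = f a' * (z * f a) := by
        have e1 : f a * (g a a' * f a') = b⁻¹ * ((a * a') * b * (a * a')⁻¹) := by simp only [g, f]; group
        have e2 : f a' * (z * f a) = b⁻¹ * ((a' * a) * b * (a' * a)⁻¹) := by simp only [hz, g, f]; group
        rw [e1, e2, hab]
      have heq' : g a a' * (f a * f a') = z * (f a' * f a) := by
        calc g a a' * (f a * f a') = (g a a' * f a) * f a' := (mul_assoc _ _ _).symm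
          _ = (f a * g a a') * f a' := congrArg (· * f a') hwa
          _ = f a * (g a a' * f a') := mul_assoc _ _ _
          _ = f a' * (z * f a) := heq
          _ = (f a' * z) * f a := (mul_assoc _ _ _).symm
          _ = (z * f a') * f a := congrArg (· * f a) hza'.symm
          _ = z * (f a' * f a) := mul_assoc _ _ _
      calc ⁅f a, f a'⁆ * g a a' = (f a * f a') * (f a' * f a)⁻¹ * g a a' := by
            rw [commutatorElement_def]; group
        _ = g a a' * ((f a * f a') * (f a' * f a)⁻¹) := by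
            have h := hcen (Subgroup.commutator_mem_commutator (hfW a ha) (hfW a' ha'))
            have h2 := h.2 _ (hWB (hgW a ha a' ha'))
            rw [commutatorElement_def] at h2
            rw [show f a * f a' * (f a' * f a)⁻¹ = f a * f a' * (f a)⁻¹ * (f a')⁻¹ by group]
            exact h2.symm
        _ = (g a a' * (f a * f a')) * (f a' * f a)⁻¹ := by group
        _ = (z * (f a' * f a)) * (f a' * f a)⁻¹ := by rw [heq']
        _ = z := mul_inv_cancel_right _ _
  have hgen : ∀ a ∈ A, ∀ a' ∈ A, ⁅f a, f a'⁆ ^ 2 = 1 := by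
    intro a ha a' ha'
    have hcc := (hcen (Subgroup.commutator_mem_commutator (hfW a ha) (hfW a' ha'))).2
    obtain ⟨h1, h2⟩ := hkey a ha a' ha'
    obtain ⟨h3, -⟩ := hkey a' ha' a ha
    have h4 : ⁅f a, f a'⁆ = ⁅f a', f a⁆ := by
      conv_lhs => rw [h1, ← h2]
      rw [h3]
      have hc' : ⁅f a, f a'⁆⁻¹ * b = b * ⁅f a, f a'⁆⁻¹ := by
        have hcomm : Commute b ⁅f a, f a'⁆ := hcc b hb
        exact hcomm.inv_right.eq.symm
      calc b⁻¹ * (⁅f a, f a'⁆ * g a a')⁻¹ * b * (⁅f a, f a'⁆ * g a a')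
          = b⁻¹ * (g a a')⁻¹ * (⁅f a, f a'⁆⁻¹ * b) * (⁅f a, f a'⁆ * g a a') := by group
        _ = b⁻¹ * (g a a')⁻¹ * b * g a a' := by rw [hc']; group
    rw [sq]
    conv_lhs => arg 2; rw [h4]
    rw [← commutatorElement_inv (f a) (f a'), mul_inv_cancel]
  have hleft : ∀ v ∈ U, (∀ a ∈ A, ⁅f a, v⁆ ^ 2 = 1) → ∀ u ∈ U, ⁅u, v⁆ ^ 2 = 1 := by
    intro v hv h u hu
    induction hu using Subgroup.closure_induction with
    | mem x hx => obtain ⟨a, ha, rfl⟩ := hx; exact h a ha
    | one => simp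
    | mul x y hx hy h1 h2 =>
      have hy' := (hcen (Subgroup.commutator_mem_commutator (hUW hy) (hUW hv))).2 x (hWB (hUW hx))
      rw [show ⁅x * y, v⁆ = x * ⁅y, v⁆ * x⁻¹ * ⁅x, v⁆ by simp only [commutatorElement_def]; group, hy',
        mul_inv_cancel_right]
      have hcomm : Commute ⁅y, v⁆ ⁅x, v⁆ := (hcen (Subgroup.commutator_mem_commutator (hUW hx) (hUW hv))).2 _
        ((hcen (Subgroup.commutator_mem_commutator (hUW hy) (hUW hv))).1)
      rw [hcomm.mul_pow, h2, h1, one_mul]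
    | inv x hx h1 =>
      have hx' := (hcen (Subgroup.commutator_mem_commutator (hUW hx) (hUW hv))).2 x (hWB (hUW hx))
      rw [show ⁅x⁻¹, v⁆ = x⁻¹ * (⁅x, v⁆⁻¹ * x) by simp only [commutatorElement_def]; group]
      have hc1 : Commute ⁅x, v⁆⁻¹ x := (show Commute x ⁅x, v⁆ from hx').symm.inv_left
      rw [hc1.eq, inv_mul_cancel_left, inv_pow, h1, inv_one]
  have hright : ∀ v ∈ U, ∀ a ∈ A, ⁅f a, v⁆ ^ 2 = 1 := by
    intro v hv a ha
    rw [← commutatorElement_inv v (f a), inv_pow, inv_eq_one]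
    exact hleft (f a) (hfU a ha) (fun a' ha' => hgen a' ha' a ha) v hv
  intro w hw
  rw [Subgroup.commutator_def] at hw
  have hmem : ∀ x ∈ Subgroup.closure {g | ∃ g₁ ∈ U, ∃ g₂ ∈ U, ⁅g₁, g₂⁆ = g},
      x ∈ ⁅W, W⁆ := fun x hx => (Subgroup.closure_le _).2 (by
      rintro _ ⟨u, hu, v, hv, rfl⟩
      exact Subgroup.commutator_mem_commutator (hUW hu) (hUW hv)) hx
  induction hw using Subgroup.closure_induction with
  | mem x hx => obtain ⟨u, hu, v, hv, rfl⟩ := hx; exact hleft v hv (hright v hv) u hu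
  | one => exact one_pow _
  | mul x y hx hy h1 h2 =>
    have hcomm : Commute x y := (hcen (hmem y hy)).2 x (hcen (hmem x hx)).1
    rw [hcomm.mul_pow, h1, h2, one_mul]
  | inv x _ h1 => rw [inv_pow, h1, inv_one]

end CfsgLib.PLocal
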