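import Mathlib
import Cfsg.Agent.Lib.PLocal.Constrained

/-!
The `p`-length is at most the class of a Sylow `p`-subgroup.
-/

set_option autoImplicit false
set_option linter.unusedSectionVars false

universe u

namespace CfsgLib.PLengthClass

open Cfsg
open scoped commutatorElement

variable {G : Type u} [Group G] [Finite G] {p : ℕ} [Fact p.Prime]

theorem series_odd (i : ℕ) : (upperPSeries p G (2 * i + 1)).1 =
    (pPrimeCore p (G ⧸ (upperPSeries p G (2 * i)).1)).comap (QuotientGroup.mk' (upperPSeries p G (2 * i)).1) := by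
  show (if Even (2 * i) then _ else _ : {H : Subgroup G // H.Normal}).1 = _
  rw [if_pos (even_two_mul i)]

theorem series_even (i : ℕ) : (upperPSeries p G (2 * i + 2)).1 =
    (pCore p (G ⧸ (upperPSeries p G (2 * i + 1)).1)).comap (QuotientGroup.mk' (upperPSeries p G (2 * i + 1)).1) := by
  show (if Even (2 * i + 1) then _ else _ : {H : Subgroup G // H.Normal}).1 = _
  rw [if_neg (by simp [parity_simps])]

theorem mem_series (hsol : IsPSolvable p G) (S : Sylow p G) : ∀ (i : ℕ) (z : ↥(S : Subgroup G)),
    z ∈ Subgroup.upperCentralSeries ↥(S : Subgroup G) i → (z : G) ∈ (upperPSeries p G (2 * i + 1)).1 := by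
  intro i
  induction i with
  | zero =>
    intro z hz
    rw [Subgroup.upperCentralSeries_zero, Subgroup.mem_bot] at hz
    rw [hz]; exact one_mem _
  | succ i ih =>
    intro z hz
    set U := (upperPSeries p G (2 * i + 1)).1 with hU
    set q := QuotientGroup.mk' U with hq
    have hO : pPrimeCore p (G ⧸ U) = ⊥ :=
      CfsgLib.PLocal.pPrimeCore_quotient_comap_eq_bot (upperPSeries p G (2 * i)).1 (series_odd i)
    have hX := CfsgLib.PSolvableClosure.of_surjective q (QuotientGroup.mk'_surjective U) hsol
    set S' := S.mapSurjective (QuotientGroup.mk'_surjective U)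
    have h1 : q (z : G) ∈ pCore p (G ⧸ U) := by
      refine CfsgLib.Blocks.hall_higman hX hO ?_
      intro y hy
      obtain ⟨s, hs, rfl⟩ : y ∈ ((S : Subgroup G).map q) := CfsgLib.pCore_le_sylow S' hy
      have hc := (Subgroup.mem_upperCentralSeries_succ_iff).1 hz ⟨s, hs⟩
      have hmem := ih _ hc
      rw [← commutatorElement_eq_one_iff_mul_comm]
      have h2 : q ⁅(z : G), s⁆ = 1 := (QuotientGroup.eq_one_iff _).2 (by simpa [commutatorElement_def] using hmem)
      rw [← map_commutatorElement, ← commutatorElement_inv, map_inv, h2, inv_one]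
    have h3 : (z : G) ∈ (upperPSeries p G (2 * i + 2)).1 := (series_even i).ge h1
    rw [show 2 * (i + 1) + 1 = (2 * i + 2) + 1 by ring]
    rw [show (2 * i + 2) = 2 * (i + 1) by ring] at h3 ⊢
    rw [series_odd, Subgroup.mem_comap, show QuotientGroup.mk' (upperPSeries p G (2 * (i + 1))).1 (z : G) = 1 from (QuotientGroup.eq_one_iff _).2 h3]
    exact one_mem _

theorem pLengthLE_class (hsol : IsPSolvable p G) (S : Sylow p G) :
    PLengthLE p (Group.nilpotencyClass ↥(S : Subgroup G)) G := by
  haveI : Group.IsNilpotent ↥(S : Subgroup G) := S.2.isNilpotent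
  set c := Group.nilpotencyClass ↥(S : Subgroup G) with hc
  show (upperPSeries p G (2 * c + 1)).1 = ⊤
  set U := (upperPSeries p G (2 * c + 1)).1 with hU
  have hSU : (S : Subgroup G) ≤ U := fun s hs =>
    mem_series hsol S c ⟨s, hs⟩ (by rw [Subgroup.upperCentralSeries_nilpotencyClass]; exact Subgroup.mem_top _)
  have hO : pPrimeCore p (G ⧸ U) = ⊥ :=
    CfsgLib.PLocal.pPrimeCore_quotient_comap_eq_bot (upperPSeries p G (2 * c)).1 (series_odd c)
  have hcop : (Nat.card (⊤ : Subgroup (G ⧸ U))).Coprime p := by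
    rw [Subgroup.card_top]
    refine ((Fact.out : p.Prime).coprime_iff_not_dvd.2 fun h => ?_).symm
    exact S.not_dvd_index (h.trans (Subgroup.index_dvd_of_le hSU))
  have htop : (⊤ : Subgroup (G ⧸ U)) ≤ pPrimeCore p (G ⧸ U) := CfsgLib.le_pPrimeCore hcop
  rw [eq_top_iff]
  intro g _
  exact (QuotientGroup.eq_one_iff g).1 (Subgroup.mem_bot.1 (hO.le (htop (Subgroup.mem_top _))))

end CfsgLib.PLengthClass
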