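import Mathlib
import Cfsg.Agent.Lib.Elementary
import Cfsg.Agent.Lib.Basic

/-!
`p`-groups with an automorphism of prime order moving everything modulo the Frattini subgroup
(the normal Sylow subgroups of minimal non-nilpotent groups).
-/

set_option autoImplicit false

namespace CfsgLib.SchmidtType

open Subgroup
open scoped commutatorElement

/-- The properties used of the normal Sylow subgroup of a minimal non-nilpotent group. -/
structure SchmidtLike (p : ℕ) (P : Type*) [Group P] : Prop where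
  comm_central : commutator P ≤ center P
  pow_central : ∀ x : P, x ^ p ∈ center P
  full : ∀ x : P, x ∉ center P → ∀ d ∈ commutator P, ∃ a : P, a * x * a⁻¹ * x⁻¹ = d
  small : (center P).index = p ^ 2 → p ≠ 3 ∧ (p = 2 → ∀ v : P, v ^ 2 = 1 → v ∈ center P)

theorem schmidtLike_of_aut {P : Type*} [Group P] [Finite P] {p q : ℕ} [Fact p.Prime] (hP : IsPGroup p P)
    (hnc : ¬ ∀ a b : P, a * b = b * a) (α : MulAut P) (hq : q.Prime) (hqp : q ≠ p) (hαq : α ^ q = 1) (hα : α ≠ 1)
    (hfix : ∀ H : Subgroup P, H ≠ ⊤ → (∀ h ∈ H, α h ∈ H) → ∀ h ∈ H, α h = h) : SchmidtLike p P := by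
  classical
  have hp : p.Prime := Fact.out
  set Φ := frattini P with hΦ
  have hΦtop : Φ ≠ ⊤ := fun h => hnc fun a b => by
    have h1 : (⊥ : Subgroup P) = ⊤ := frattini_nongenerating (by rw [bot_sup_eq]; exact h)
    have ha : a ∈ (⊥ : Subgroup P) := h1 ▸ mem_top a
    rw [mem_bot] at ha
    rw [ha, one_mul, mul_one]
  have hΦinv : ∀ h ∈ Φ, α h ∈ Φ := fun h hh =>
    (Subgroup.characteristic_iff_le_comap.mp (inferInstance : Φ.Characteristic) α) hh
  have hΦfix := hfix Φ hΦtop hΦinv
  have hcop : ∀ u : P, u ^ q = 1 → u = 1 := fun u hu => by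
    obtain ⟨k, hk⟩ := hP u
    exact orderOf_eq_one_iff.mp (Nat.eq_one_of_dvd_coprimes
      (((Nat.coprime_primes hq hp).mpr hqp).pow_right k) (orderOf_dvd_of_pow_eq_one hu) (orderOf_dvd_of_pow_eq_one hk))
  have hiter : (∀ t, α (α t * t⁻¹) = α t * t⁻¹) → False := fun h => by
    refine hα (MulEquiv.ext fun t => ?_)
    have hn : ∀ n : ℕ, (α ^ n) t = (α t * t⁻¹) ^ n * t := by
      intro n
      induction n with
      | zero => simp
      | succ n ih => rw [pow_succ' α, MulAut.mul_apply, ih, map_mul, map_pow, h, pow_succ]; group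
    have h1 := hn q
    rw [hαq, MulAut.one_apply, right_eq_mul] at h1
    rw [MulAut.one_apply]
    exact mul_inv_eq_one.mp (hcop _ h1)
  have hab : ∀ a b : P ⧸ Φ, a * b = b * a := fun a b => by
    obtain ⟨a, rfl⟩ := QuotientGroup.mk_surjective a
    obtain ⟨b, rfl⟩ := QuotientGroup.mk_surjective b
    show ((a * b : P) : P ⧸ Φ) = ((b * a : P) : P ⧸ Φ)
    rw [QuotientGroup.eq, show (a * b)⁻¹ * (b * a) = ⁅b⁻¹, a⁻¹⁆ by rw [commutatorElement_def]; group]
    exact CfsgLib.commutator_le_frattini_pGroup hP (commutator_mem_commutator (mem_top _) (mem_top _))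
  letI : CommGroup (P ⧸ Φ) := { (inferInstance : Group (P ⧸ Φ)) with mul_comm := hab }
  let π := QuotientGroup.mk' Φ
  have hπker : ∀ a, π a = 1 ↔ a ∈ Φ := fun a => QuotientGroup.eq_one_iff a
  let f : P ⧸ Φ →* P ⧸ Φ := QuotientGroup.map Φ Φ α.toMonoidHom (fun h hh => hΦinv h hh)
  have hf : ∀ a, f (π a) = π (α a) := fun a => rfl
  let ψ : P ⧸ Φ →* P ⧸ Φ := f * (MonoidHom.id _)⁻¹
  have hψ : ∀ a, ψ (π a) = π (α a * a⁻¹) := fun a => by
    show f (π a) * (π a)⁻¹ = _
    rw [hf, map_mul, map_inv]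
  have hψsurj : Function.Surjective ψ := by
    by_contra hns
    set M := ψ.range.comap π with hM
    have hMtop : M ≠ ⊤ := fun h => hns fun w => by
      obtain ⟨a, rfl⟩ := QuotientGroup.mk'_surjective Φ w
      exact (h ▸ mem_top a : a ∈ M)
    have hMinv : ∀ h ∈ M, α h ∈ M := by
      rintro h ⟨w, hw⟩
      refine ⟨f w, ?_⟩
      rw [← hf, ← hw]
      show f (f w) * (f w)⁻¹ = f (f w * w⁻¹)
      rw [map_mul, map_inv]
    exact hiter fun t => hfix M hMtop hMinv _ ⟨π t, hψ t⟩
  have hψinj : Function.Injective ψ := Finite.injective_iff_surjective.mpr hψsurj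
  have hfpf : ∀ a, π (α a) = π a → a ∈ Φ := fun a ha => by
    rw [← hπker]
    refine hψinj ?_
    rw [map_one, hψ, map_mul, map_inv, ha, mul_inv_cancel]
  have hirr : ∀ H : Subgroup P, H ≠ ⊤ → (∀ h ∈ H, α h ∈ H) → H ≤ Φ :=
    fun H h1 h2 a ha => hfpf a (by rw [hfix H h1 h2 a ha])
  have hΦc : Φ ≤ center P := by
    intro z hz
    set C := centralizer ({z} : Set P) with hC
    by_cases hCtop : C = ⊤
    · refine mem_center_iff.mpr fun g => ?_
      exact mem_centralizer_singleton_iff.mp (hCtop ▸ mem_top g : g ∈ C)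
    exfalso
    have hgen : ∀ t, t⁻¹ * α t ∈ C := by
      intro t
      have hz' : t * z * t⁻¹ ∈ Φ := (inferInstance : Φ.Normal).conj_mem z hz t
      have h1 : α t * z * (α t)⁻¹ = t * z * t⁻¹ := by
        have := hΦfix _ hz'
        rwa [map_mul, map_mul, map_inv, hΦfix z hz] at this
      rw [hC, mem_centralizer_singleton_iff]
      calc t⁻¹ * α t * z = t⁻¹ * (α t * z * (α t)⁻¹) * α t := by group
        _ = z * (t⁻¹ * α t) := by rw [h1]; group
    have hCinv : ∀ h ∈ C, α h ∈ C := fun h hh => by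
      rw [hC, mem_centralizer_singleton_iff] at hh ⊢
      have := congrArg α hh
      rwa [map_mul, map_mul, hΦfix z hz] at this
    refine hiter fun t => ?_
    have h1 := hfix C hCtop hCinv _ (inv_mem (hgen t⁻¹))
    simpa [mul_inv_rev] using h1
  have hcΦ : center P ≤ Φ := by
    refine hirr _ (fun h => hnc fun a b => mem_center_iff.mp (h ▸ mem_top b : b ∈ center P) a) fun h hh => ?_
    refine mem_center_iff.mpr fun g => ?_
    have h1 := congrArg α (mem_center_iff.mp hh (α.symm g))
    rwa [map_mul, map_mul, MulEquiv.apply_symm_apply] at h1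
  have hcommΦ : commutator P ≤ Φ := CfsgLib.commutator_le_frattini_pGroup hP
  have hcommc : commutator P ≤ center P := hcommΦ.trans hΦc
  have hcm : ∀ a b : P, a * b * a⁻¹ * b⁻¹ ∈ commutator P := fun a b =>
    commutator_mem_commutator (mem_top a) (mem_top b)
  have hz : ∀ {d : P}, d ∈ center P → ∀ g : P, g * d = d * g := fun hd g => mem_center_iff.mp hd g
  have hmulL : ∀ a b x : P, a * b * x * (a * b)⁻¹ * x⁻¹ = (b * x * b⁻¹ * x⁻¹) * (a * x * a⁻¹ * x⁻¹) := fun a b x => by
    have h1 : a * b * x * (a * b)⁻¹ * x⁻¹ = a * (b * x * b⁻¹ * x⁻¹) * (x * a⁻¹ * x⁻¹) := by group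
    rw [h1, hz (hcommc (hcm b x)) a]; group
  have hmulR : ∀ a y w : P, a * (y * w) * a⁻¹ * (y * w)⁻¹ = (a * y * a⁻¹ * y⁻¹) * (a * w * a⁻¹ * w⁻¹) := fun a y w => by
    have h1 : a * (y * w) * a⁻¹ * (y * w)⁻¹ = (a * y * a⁻¹) * ((a * w * a⁻¹ * w⁻¹) * y⁻¹) := by group
    rw [h1, ← hz (hcommc (hcm a w)) y⁻¹]; group
  have hfull : ∀ x : P, x ∉ center P → ∀ d ∈ commutator P, ∃ a : P, a * x * a⁻¹ * x⁻¹ = d := by
    intro x hx
    let I : Subgroup P :=
      { carrier := {d | ∃ a : P, a * x * a⁻¹ * x⁻¹ = d}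
        one_mem' := ⟨1, by group⟩
        mul_mem' := fun {d e} hd he => by
          obtain ⟨⟨a, rfl⟩, b, rfl⟩ := hd, he
          exact ⟨b * a, hmulL b a x⟩
        inv_mem' := fun {d} hd => by
          obtain ⟨a, rfl⟩ := hd
          refine ⟨a⁻¹, eq_inv_of_mul_eq_one_left ?_⟩
          rw [← hmulL a a⁻¹ x, mul_inv_cancel]
          group }
    let R : Subgroup P :=
      { carrier := {y | ∀ a : P, a * y * a⁻¹ * y⁻¹ ∈ I}
        one_mem' := fun a => by simp
        mul_mem' := fun {y w} hy hw a => by rw [hmulR]; exact mul_mem (hy a) (hw a)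
        inv_mem' := fun {y} hy a => by
          have h1 := hmulR a y y⁻¹
          rw [mul_inv_cancel, mul_one, inv_one, mul_one, mul_inv_cancel] at h1
          exact (eq_inv_of_mul_eq_one_right h1.symm) ▸ inv_mem (hy a) }
    have hRtop : R = ⊤ := by
      by_contra hne
      refine hx (hΦc (hirr R hne (fun y hy a => ?_) (show x ∈ R from fun a => ⟨a, rfl⟩)))
      have h1 := hy (α.symm a)
      rw [← hΦfix _ (hcommΦ (hcm (α.symm a) y))] at h1
      simpa using h1
    have hle : commutator P ≤ I := by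
      rw [_root_.commutator_def, Subgroup.commutator_le]
      intro a _ b _
      exact (hRtop ▸ mem_top b : b ∈ R) a
    exact fun d hd => hle hd
  refine ⟨hcommc, fun x => hΦc (CfsgLib.pow_mem_frattini_pGroup hP x), hfull, fun hidx => ?_⟩
  have hcard : Nat.card (P ⧸ Φ) = p ^ 2 := by rw [← Subgroup.index_eq_card, le_antisymm hΦc hcΦ]; exact hidx
  obtain ⟨y₀, hy₀⟩ : ∃ y, y ∉ Φ := by
    by_contra h
    push Not at h
    exact hΦtop (eq_top_iff.mpr fun y _ => h y)
  -- the order of the automorphism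
  have hq1 : q ∣ p ^ 2 - 1 := by
    have hfq : (show Function.End (P ⧸ Φ) from ⇑f) ^ q ^ 1 = 1 := by
      rw [pow_one]
      funext w
      obtain ⟨a, rfl⟩ := QuotientGroup.mk'_surjective Φ w
      have hn : ∀ n : ℕ, ((show Function.End (P ⧸ Φ) from ⇑f) ^ n) (π a) = π ((α ^ n) a) := by
        intro n
        induction n with
        | zero => rfl
        | succ n ih =>
          rw [pow_succ', pow_succ', MulAut.mul_apply]
          show f (((show Function.End (P ⧸ Φ) from ⇑f) ^ n) (π a)) = _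
          rw [ih, hf]
      rw [hn, hαq]
      rfl
    haveI := Fact.mk hq
    haveI := Fintype.ofFinite (P ⧸ Φ)
    have h1 := Equiv.Perm.card_fixedPoints_modEq (f := (show Function.End (P ⧸ Φ) from ⇑f)) hfq
    have h2 : Fintype.card (Function.fixedPoints (f : P ⧸ Φ → P ⧸ Φ)) = 1 := by
      rw [Fintype.card_eq_one_iff]
      refine ⟨⟨1, map_one f⟩, fun ⟨w, hw⟩ => Subtype.ext ?_⟩
      obtain ⟨a, rfl⟩ := QuotientGroup.mk'_surjective Φ w
      exact (hπker a).mpr (hfpf a hw)
    rw [← Nat.card_eq_fintype_card, hcard] at h1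
    exact (Nat.modEq_iff_dvd' (Nat.one_le_pow _ _ hp.pos)).mp ((h1.trans (by rw [h2])).symm)
  constructor
  · rintro rfl
    have hq2 : q = 2 := (Nat.prime_dvd_prime_iff_eq hq Nat.prime_two).mp (hq.dvd_of_dvd_pow (show q ∣ 2 ^ 3 from hq1))
    subst hq2
    set u := y₀ * α y₀ with hu
    have hαα : α (α y₀) = y₀ := by
      have := MulEquiv.congr_fun hαq y₀
      rwa [pow_two, MulAut.mul_apply, MulAut.one_apply] at this
    have huΦ : u ∈ Φ := hfpf u (by rw [hu, map_mul, hαα, map_mul, map_mul, mul_comm])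
    set H := zpowers y₀ ⊔ Φ with hH
    have hyH : y₀ ∈ H := mem_sup_left (mem_zpowers y₀)
    have hHinv : H ≤ H.comap α.toMonoidHom := by
      refine sup_le ?_ fun h hh => mem_sup_right (hΦinv h hh)
      rw [zpowers_le, mem_comap]
      show α y₀ ∈ H
      rw [show α y₀ = y₀⁻¹ * u by rw [hu]; group]
      exact mul_mem (inv_mem hyH) (mem_sup_right huΦ)
    by_cases hHtop : H = ⊤
    · refine hy₀ (hcΦ (mem_center_iff.mpr fun g => ?_))
      have hle : H ≤ centralizer ({y₀} : Set P) := sup_le (zpowers_le.mpr (mem_centralizer_singleton_iff.mpr rfl))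
        (hΦc.trans (center_le_centralizer _))
      exact mem_centralizer_singleton_iff.mp (hle (hHtop ▸ mem_top g))
    · exact hy₀ (hirr H hHtop (fun h hh => hHinv hh) hyH)
  · rintro rfl v hv
    by_contra hvc
    have hvΦ : v ∉ Φ := fun h => hvc (hΦc h)
    have hq3 : q = 3 := (Nat.prime_dvd_prime_iff_eq hq Nat.prime_three).mp (show q ∣ 3 from hq1)
    subst hq3
    set v₁ := α v with hv₁
    set v₂ := α v₁ with hv₂
    have hv3 : α v₂ = v := by
      have := MulEquiv.congr_fun hαq v
      rwa [pow_succ, pow_two, MulAut.mul_apply, MulAut.mul_apply, MulAut.one_apply] at this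
    have hne : ∀ u, u ∉ Φ → α u ∉ Φ := fun u hu h => hu (hfpf u (by
      have e := hΦfix _ h
      rw [EmbeddingLike.apply_eq_iff_eq] at e
      rw [e]))
    set a := π v with ha
    set b := π v₁ with hb
    set c := π v₂ with hc
    have ha1 : a ≠ 1 := fun h => hvΦ ((hπker v).mp h)
    have hb1 : b ≠ 1 := fun h => hne v hvΦ ((hπker v₁).mp h)
    have hc1 : c ≠ 1 := fun h => hne _ (hne v hvΦ) ((hπker v₂).mp h)
    have hba : b ≠ a := fun h => hvΦ (hfpf v h)
    have hcb : c ≠ b := fun h => hne v hvΦ (hfpf v₁ h)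
    have hca : c ≠ a := fun h => by
      have := congrArg f h
      rw [hc, ha, hf, hf, hv3] at this
      exact hba this.symm
    have hsq : ∀ w : P ⧸ Φ, w * w = 1 := fun w => by
      obtain ⟨x, rfl⟩ := QuotientGroup.mk'_surjective Φ w
      rw [← map_mul, ← pow_two]
      exact (hπker _).mpr (CfsgLib.pow_mem_frattini_pGroup hP x)
    haveI := Fintype.ofFinite (P ⧸ Φ)
    have hab1 : a * b ≠ 1 := fun h => hba (mul_left_cancel (h.trans (hsq a).symm))
    have hall : ∀ w : P ⧸ Φ, w = 1 ∨ w = a ∨ w = b ∨ w = a * b := by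
      intro w
      by_contra hw
      push Not at hw
      have h1 : ({1, a, b, a * b, w} : Finset (P ⧸ Φ)).card = 5 := by
        rw [Finset.card_insert_of_notMem, Finset.card_insert_of_notMem, Finset.card_insert_of_notMem,
          Finset.card_insert_of_notMem, Finset.card_singleton]
        · simpa using hw.2.2.2.symm
        · simp only [Finset.mem_insert, Finset.mem_singleton, not_or]
          exact ⟨by simpa [right_eq_mul] using ha1, hw.2.2.1.symm⟩
        · simp only [Finset.mem_insert, Finset.mem_singleton, not_or]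
          exact ⟨hba.symm, by simpa [left_eq_mul] using hb1, hw.2.1.symm⟩
        · simp only [Finset.mem_insert, Finset.mem_singleton, not_or]
          exact ⟨ha1.symm, hb1.symm, hab1.symm, hw.1.symm⟩
      have h2 := Finset.card_le_univ ({1, a, b, a * b, w} : Finset (P ⧸ Φ))
      rw [h1, ← Nat.card_eq_fintype_card, hcard] at h2
      omega
    have hcab : c = a * b := by
      rcases hall c with h | h | h | h
      · exact absurd h hc1
      · exact absurd h hca
      · exact absurd h hcb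
      · exact h
    -- generation
    set S := closure ({v, v₁} : Set P) with hS
    have hvS : v ∈ S := subset_closure (Set.mem_insert _ _)
    have hv₁S : v₁ ∈ S := subset_closure (Set.mem_insert_of_mem _ rfl)
    have hStop : S = ⊤ := by
      refine frattini_nongenerating (eq_top_iff.mpr fun y _ => ?_)
      obtain ⟨s, hs, hsy⟩ : ∃ s ∈ S, π s = π y := by
        rcases hall (π y) with h | h | h | h
        · exact ⟨1, one_mem _, by rw [map_one, h]⟩
        · exact ⟨v, hvS, h.symm⟩
        · exact ⟨v₁, hv₁S, h.symm⟩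
        · exact ⟨v * v₁, mul_mem hvS hv₁S, by rw [map_mul, h]⟩
      have h1 := mul_mem (mem_sup_left (T := Φ) hs) (mem_sup_right (S := S) (QuotientGroup.eq.mp hsy))
      rwa [mul_inv_cancel_left] at h1
    have hncv : v * v₁ ≠ v₁ * v := by
      intro h
      refine hvc (mem_center_iff.mpr fun g => ?_)
      have hle : S ≤ centralizer ({v} : Set P) := by
        rw [hS, closure_le]
        rintro x (rfl | rfl)
        · exact mem_centralizer_singleton_iff.mpr rfl
        · exact mem_centralizer_singleton_iff.mpr h.symm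
      exact mem_centralizer_singleton_iff.mp (hle (hStop ▸ mem_top g))
    set fz := (v * v₁)⁻¹ * v₂ with hfz
    have hfzΦ : fz ∈ Φ := QuotientGroup.eq.mp (show π (v * v₁) = π v₂ by rw [map_mul, ← ha, ← hb, ← hc, hcab])
    have hv₁2 : v₁ ^ 2 = 1 := by rw [hv₁, ← map_pow, hv, map_one]
    have hfzc : Commute (v * v₁) fz := hz (hΦc hfzΦ) (v * v₁)
    have hv₂2 : (v * v₁) ^ 2 * fz ^ 2 = 1 := by
      rw [← hfzc.mul_pow, hfz, mul_inv_cancel_left, hv₂, ← map_pow, hv₁2, map_one]
    -- the Frattini part is in the derived subgroup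
    let ρ : P →* Abelianization P := Abelianization.of
    have hD2 : ∀ d ∈ commutator P, d ^ 2 = 1 := by
      intro d hd
      obtain ⟨x, rfl⟩ := hfull v hvc d hd
      rw [pow_two, ← hmulR x v v, ← pow_two, hv]
      group
    have hfD : fz ∈ commutator P := by
      rw [← QuotientGroup.eq_one_iff]
      show ρ fz = 1
      have himg : ρ fz ∈ closure ({ρ v, ρ v₁} : Set (Abelianization P)) := by
        have h1 : S.map ρ = closure ({ρ v, ρ v₁} : Set (Abelianization P)) := by
          rw [hS, MonoidHom.map_closure, Set.image_insert_eq, Set.image_singleton]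
        rw [← h1]
        exact mem_map_of_mem ρ (hStop ▸ mem_top fz)
      obtain ⟨m, n, hmn⟩ := mem_closure_pair.mp himg
      have hA : ∀ (A : P), A ^ 2 = 1 → ∀ m : ℤ, ρ A ^ m = 1 ∧ Even m ∨ ρ A ^ m = ρ A ∧ ¬ Even m := by
        intro A hA m
        have h2 : (ρ A) ^ (2 : ℤ) = 1 := by rw [zpow_ofNat, ← map_pow, hA, map_one]
        rcases Int.even_or_odd m with ⟨j, rfl⟩ | ⟨j, rfl⟩
        · exact Or.inl ⟨by rw [← two_mul, zpow_mul, h2, one_zpow], ⟨j, rfl⟩⟩
        · exact Or.inr ⟨by rw [zpow_add, zpow_mul, h2, one_zpow, one_mul, zpow_one], by simp⟩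
      let σ : Abelianization P →* P ⧸ Φ := QuotientGroup.map (commutator P) Φ (MonoidHom.id P) hcommΦ
      have hσ : σ (ρ fz) = 1 := (hπker fz).mpr hfzΦ
      rcases hA v hv m with ⟨hm, -⟩ | ⟨hm, -⟩ <;> rcases hA v₁ hv₁2 n with ⟨hn, -⟩ | ⟨hn, -⟩ <;>
        erw [hm, hn] at hmn
      · rw [← hmn, one_mul]
      · rw [← hmn, one_mul] at hσ
        exact absurd hσ hb1
      · rw [← hmn, mul_one] at hσ
        exact absurd hσ ha1
      · rw [← hmn, map_mul] at hσ
        exact absurd hσ hab1
    rw [hD2 fz hfD, mul_one, pow_two] at hv₂2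
    refine hncv (inv_mul_eq_one.mp ?_ : v * v₁ = v₁ * v)
    have hvi : v⁻¹ = v := inv_eq_of_mul_eq_one_right (by rw [← pow_two, hv])
    have hv₁i : v₁⁻¹ = v₁ := inv_eq_of_mul_eq_one_right (by rw [← pow_two, hv₁2])
    rw [mul_inv_rev, hvi, hv₁i]
    calc v₁ * v * (v₁ * v) = v⁻¹ * (v * v₁ * (v * v₁)) * v := by group
      _ = 1 := by rw [hv₂2]; group

end CfsgLib.SchmidtType
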