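import Mathlib
import Cfsg.Agent.Lib.PLocal.SchmidtTypeSylow
import Cfsg.Agent.Lib.Coprime
import Cfsg.Agent.Lib.CoprimeGen
import Cfsg.Agent.Lib.PSolvable
import Cfsg.Agent.Lib.Blocks.HallHigman
import Cfsg.Agent.Lib.Fusion.PSolvable
import Cfsg.Agent.Lib.PLocal.Offender.Dual

/-!
A `p`-solvable group without normal `p'`-subgroup whose Sylow `p`-subgroup is of Schmidt type has a normal Sylow
`p`-subgroup.
-/

set_option autoImplicit false
set_option maxHeartbeats 1000000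

namespace CfsgLib.SchmidtType

open Subgroup
open scoped commutatorElement Pointwise

variable {G : Type*} [Group G] [Finite G] {p : ℕ} [Fact p.Prime]

/-- One step down a chain for an element of order prime to `p`. -/
theorem centralizes_step {T C E : Subgroup G} (hT : IsPGroup p T) (hET : E ≤ T) {g : G}
    (hg : (orderOf g).Coprime p) (hE : ∀ e ∈ E, g * e * g⁻¹ = e)
    (h : ∀ t ∈ C, t⁻¹ * (g * t * g⁻¹) ∈ E) : ∀ t ∈ C, g * t * g⁻¹ = t := by
  intro t ht
  set u := t⁻¹ * (g * t * g⁻¹) with hu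
  have hn : ∀ n : ℕ, g ^ n * t * (g ^ n)⁻¹ = t * u ^ n := by
    intro n
    induction n with
    | zero => simp
    | succ n ih =>
      have h1 : g * (t * u ^ n) * g⁻¹ = t * u * u ^ n := by
        have h2 : g * u ^ n * g⁻¹ = u ^ n := hE _ (pow_mem (h t ht) n)
        calc g * (t * u ^ n) * g⁻¹ = (g * t * g⁻¹) * (g * u ^ n * g⁻¹) := by group
          _ = t * u * u ^ n := by rw [h2, hu, mul_inv_cancel_left]
      rw [pow_succ', mul_inv_rev, show g * g ^ n * t * ((g ^ n)⁻¹ * g⁻¹) = g * (g ^ n * t * (g ^ n)⁻¹) * g⁻¹ by group,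
        ih, h1, mul_assoc, ← pow_succ']
  have h3 := hn (orderOf g)
  rw [pow_orderOf_eq_one, inv_one, mul_one, one_mul, left_eq_mul] at h3
  obtain ⟨k, hk⟩ := hT ⟨u, hET (h t ht)⟩
  have hk' : u ^ p ^ k = 1 := congrArg Subtype.val hk
  have hu1 : u = 1 := orderOf_eq_one_iff.mp (Nat.eq_one_of_dvd_coprimes (hg.pow_right k)
    (orderOf_dvd_of_pow_eq_one h3) (orderOf_dvd_of_pow_eq_one hk'))
  exact (inv_mul_eq_one.mp hu1).symm

/-- `g` acts trivially on `C` modulo `E`. -/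
def Triv (C E : Subgroup G) (g : G) : Prop := ∀ t ∈ C, t⁻¹ * (g * t * g⁻¹) ∈ E

theorem Triv.mul {C E : Subgroup G} {g h : G} (hg : Triv C E g) (hh : Triv C E h)
    (hgE : ∀ e ∈ E, g * e * g⁻¹ ∈ E) : Triv C E (g * h) := fun t ht => by
  have h1 : t⁻¹ * (g * h * t * (g * h)⁻¹) = (t⁻¹ * (g * t * g⁻¹)) * (g * (t⁻¹ * (h * t * h⁻¹)) * g⁻¹) := by group
  rw [h1]
  exact mul_mem (hg t ht) (hgE _ (hh t ht))

theorem Triv.inv {C E : Subgroup G} {g : G} (hg : Triv C E g) (hgC : ∀ t ∈ C, g⁻¹ * t * g ∈ C) :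
    Triv C E g⁻¹ := fun t ht => by
  have h1 := inv_mem (hg _ (hgC t ht))
  rw [show t⁻¹ * (g⁻¹ * t * g⁻¹⁻¹) = ((g⁻¹ * t * g)⁻¹ * (g * (g⁻¹ * t * g) * g⁻¹))⁻¹ by group]
  exact h1

theorem Triv.conj {C E : Subgroup G} {g r : G} (hg : Triv C E g) (hrC : ∀ t ∈ C, r⁻¹ * t * r ∈ C)
    (hrE : ∀ e ∈ E, r * e * r⁻¹ ∈ E) : Triv C E (r * g * r⁻¹) := fun t ht => by
  have h1 := hrE _ (hg _ (hrC t ht))
  rw [show t⁻¹ * (r * g * r⁻¹ * t * (r * g * r⁻¹)⁻¹) =
    r * ((r⁻¹ * t * r)⁻¹ * (g * (r⁻¹ * t * r) * g⁻¹)) * r⁻¹ by group]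
  exact h1

/-- The commutator with an element acting trivially on a section acts trivially on it. -/
theorem triv_comm {C E : Subgroup G} {g r : G} (hg : Triv C E g) (hrC : r ∈ normalizer (C : Set G))
    (hrE : r ∈ normalizer (E : Set G)) (hgC : g ∈ normalizer (C : Set G)) (hgE : g ∈ normalizer (E : Set G)) :
    Triv C E (r * g * r⁻¹ * g⁻¹) := by
  have hm : ∀ {H : Subgroup G} {a : G}, a ∈ normalizer (H : Set G) → ∀ t ∈ H, a⁻¹ * t * a ∈ H := fun ha t ht => by
    simpa using (Subgroup.mem_normalizer_iff.mp (inv_mem ha) t).mp ht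
  refine (hg.conj (hm hrC) fun e he => (Subgroup.mem_normalizer_iff.mp hrE e).mp he).mul (hg.inv (hm hgC)) ?_
  intro e he
  exact (Subgroup.mem_normalizer_iff.mp (mul_mem (mul_mem hrE hgE) (inv_mem hrE)) e).mp he

variable {T R : Subgroup G} [T.Normal]

/-- Conjugates of `T ∩ N(R)` are centralised by `R`. -/
theorem fixed_commute (hRT : ∀ r ∈ R, r ∈ T → r = 1) {t r : G} (ht : t ∈ T ⊓ normalizer (R : Set G))
    (hr : r ∈ R) : r * t * r⁻¹ = t := by
  rw [mem_inf] at ht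
  have h1 : t * r * t⁻¹ * r⁻¹ = 1 := by
    refine hRT _ (mul_mem ((Subgroup.mem_normalizer_iff.mp ht.2 r).mp hr) (inv_mem hr)) ?_
    rw [show t * r * t⁻¹ * r⁻¹ = t * (r * t⁻¹ * r⁻¹) by group]
    exact mul_mem ht.1 ((inferInstance : T.Normal).conj_mem _ (inv_mem ht.1) r)
  have h2 : t * r = r * t := by
    rw [mul_inv_eq_one, mul_inv_eq_iff_eq_mul] at h1
    exact h1
  rw [← h2, mul_inv_cancel_right]

theorem conj_pow_of_commute {a b c : G} (h : a * b * a⁻¹ = c * b) (hac : a * c * a⁻¹ = c) :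
    ∀ n : ℕ, a ^ n * b * (a ^ n)⁻¹ = c ^ n * b := by
  intro n
  induction n with
  | zero => simp
  | succ n ih =>
    rw [pow_succ', show a * a ^ n * b * (a * a ^ n)⁻¹ = a * (a ^ n * b * (a ^ n)⁻¹) * a⁻¹ by group, ih,
      show a * (c ^ n * b) * a⁻¹ = (a * c ^ n * a⁻¹) * (a * b * a⁻¹) by group, h,
      ← conj_pow, hac, ← mul_assoc, ← pow_succ]

theorem sylow_le_pCore (hsol : Cfsg.IsPSolvable p G) (hO : Cfsg.pPrimeCore p G = ⊥) (S : Sylow p G)
    (hS : SchmidtLike p ↥(S : Subgroup G)) : (S : Subgroup G) ≤ Cfsg.pCore p G := by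
  classical
  have hp : p.Prime := Fact.out
  set Q := (S : Subgroup G) with hQdef
  set T := Cfsg.pCore p G with hTdef
  have hTp : IsPGroup p T := CfsgLib.isPGroup_pCore p
  have hTQ : T ≤ Q := CfsgLib.pCore_le_sylow S
  have hCT : centralizer (T : Set G) ≤ T := CfsgLib.Blocks.hall_higman hsol hO
  -- the centre and the derived subgroup of `Q`
  set Z := (center Q).map Q.subtype with hZdef
  set D := (commutator Q).map Q.subtype with hDdef
  have hZQ : Z ≤ Q := map_subtype_le _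
  have hDZ : D ≤ Z := map_mono hS.comm_central
  have hZc : ∀ z ∈ Z, ∀ q ∈ Q, q * z = z * q := by
    rintro _ ⟨z, hz, rfl⟩ q hq
    exact congrArg Subtype.val (mem_center_iff.mp hz ⟨q, hq⟩)
  have hZmk : ∀ z ∈ Q, (∀ q ∈ Q, q * z = z * q) → z ∈ Z := fun z hz h =>
    ⟨⟨z, hz⟩, mem_center_iff.mpr fun q => Subtype.ext (h q q.2), rfl⟩
  have hZT : Z ≤ T := fun z hz => hCT (mem_centralizer_iff.mpr fun t ht => hZc z hz t (hTQ ht))
  have hDT : D ≤ T := hDZ.trans hZT
  have hDQ : D ≤ Q := map_subtype_le _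
  have hcomm : ∀ a ∈ Q, ∀ b ∈ Q, a * b * a⁻¹ * b⁻¹ ∈ D := fun a ha b hb =>
    ⟨⁅(⟨a, ha⟩ : Q), ⟨b, hb⟩⁆, commutator_mem_commutator (mem_top _) (mem_top _), rfl⟩
  have hpowZ : ∀ x ∈ Q, x ^ p ∈ Z := fun x hx => ⟨⟨x, hx⟩ ^ p, hS.pow_central _, rfl⟩
  have hfull : ∀ x ∈ Q, x ∉ Z → ∀ d ∈ D, ∃ a ∈ Q, a * x * a⁻¹ * x⁻¹ = d := by
    rintro x hx hxZ _ ⟨d, hd, rfl⟩
    obtain ⟨a, ha⟩ := hS.full ⟨x, hx⟩ (fun h => hxZ ⟨_, h, rfl⟩) d hd
    exact ⟨a, a.2, congrArg Subtype.val ha⟩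
  have hQnormD : Q ≤ normalizer (D : Set G) := by
    intro q hq
    rw [Subgroup.mem_normalizer_iff]
    intro d
    constructor
    · intro hd
      rw [hZc d (hDZ hd) q hq, mul_inv_cancel_right]; exact hd
    · intro hd
      have e := hZc _ (hDZ hd) q hq
      rw [show d = q⁻¹ * ((q * d * q⁻¹) * q) by group, ← e, inv_mul_cancel_left]
      exact hd
  -- the `p'`-part above `T` and a complement
  set π := QuotientGroup.mk' T with hπ
  have hrelT : ∀ H : Subgroup G, T.relIndex H = Nat.card (H.map π) := fun H =>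
    (congrArg (fun M : Subgroup G => M.relIndex H) (QuotientGroup.ker_mk' T).symm).trans (Subgroup.relIndex_ker (K := H) π)
  set K := (Cfsg.pPrimeCore p (G ⧸ T)).comap π with hK
  haveI hKn : K.Normal := (inferInstance : (Cfsg.pPrimeCore p (G ⧸ T)).Normal).comap π
  have hTK : T ≤ K := fun t ht => by
    rw [hK, mem_comap, show π t = 1 from (QuotientGroup.eq_one_iff t).mpr ht]; exact one_mem _
  have hTcard : ∃ k, Nat.card T = p ^ k := IsPGroup.iff_card.mp hTp
  have hcopK : (Nat.card (T.subgroupOf K)).Coprime (T.subgroupOf K).index := by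
    obtain ⟨k, hk⟩ := hTcard
    rw [Nat.card_congr (subgroupOfEquivOfLe hTK).toEquiv, hk]
    have h1 : (T.subgroupOf K).index = Nat.card (Cfsg.pPrimeCore p (G ⧸ T)) := by
      rw [← relIndex, hrelT, hK,
        map_comap_eq_self_of_surjective (QuotientGroup.mk'_surjective T)]
    rw [h1]
    exact ((CfsgLib.card_pPrimeCore_coprime (G := G ⧸ T) p).symm).pow_left k
  obtain ⟨R', hR'⟩ := exists_right_complement'_of_coprime hcopK
  set R := R'.map K.subtype with hR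
  have hRK : R ≤ K := map_subtype_le _
  have hRT : ∀ r ∈ R, r ∈ T → r = 1 := by
    rintro _ ⟨r, hr, rfl⟩ hrT
    rw [show r = 1 from Subgroup.disjoint_def.mp hR'.disjoint hrT hr]
    rfl
  have hKTR : ∀ k ∈ K, ∃ t ∈ T, ∃ r ∈ R, t * r = k := fun k hk => by
    obtain ⟨⟨t, r⟩, htr⟩ := hR'.2 (⟨k, hk⟩ : K)
    exact ⟨(t : K), t.2, ((r : K) : G), ⟨r, r.2, rfl⟩, congrArg Subtype.val htr⟩
  have hRcard : (Nat.card R).Coprime p := by
    have h1 : Nat.card R = (T.subgroupOf K).index := by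
      rw [hR, card_subtype, hR'.symm.index_eq_card]
    rw [h1, ← relIndex, hrelT, hK,
      map_comap_eq_self_of_surjective (QuotientGroup.mk'_surjective T)]
    exact CfsgLib.card_pPrimeCore_coprime p
  have hRcop : ∀ r ∈ R, (orderOf r).Coprime p := fun r hr =>
    hRcard.coprime_dvd_left (Subgroup.orderOf_dvd_natCard R hr)
  have hTR : (Nat.card R).Coprime (Nat.card T) := by
    obtain ⟨k, hk⟩ := hTcard
    rw [hk]; exact hRcard.pow_right k
  set N := normalizer (R : Set G) with hN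
  have hfr : ∀ g : G, ∃ t ∈ T, t * g ∈ N := by
    intro g
    obtain ⟨w, hw, hwR⟩ := CfsgLib.coprime_key_normalize (A := R) (W := T) (k := g) hTR
      (Or.inr (by haveI := hTp.isNilpotent; infer_instance))
      (by rw [normalizer_eq_top]; exact le_top) (fun a ha => by
        have h1 : g⁻¹ * a * g ∈ K := by simpa using hKn.conj_mem a (hRK ha) g⁻¹
        obtain ⟨t, ht, r, hr, htr⟩ := hKTR _ h1
        exact htr ▸ mul_mem_sup ht hr)
    refine ⟨g * w * g⁻¹, (inferInstance : T.Normal).conj_mem w hw g, ?_⟩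
    rw [inv_mul_cancel_right]
    have hmap : R.map (MulAut.conj (g * w)).toMonoidHom = R := by
      refine eq_of_le_of_card_ge (fun x hx => ?_) (card_map_of_injective (MulAut.conj (g * w)).injective).ge
      obtain ⟨a, ha, rfl⟩ := hx
      exact hwR a ha
    rw [hN, Subgroup.mem_normalizer_iff]
    intro h
    refine ⟨hwR h, fun hh => ?_⟩
    rw [← hmap] at hh
    obtain ⟨a, ha, e⟩ := hh
    exact (MulAut.conj (g * w)).injective e ▸ ha
  have hQdec : ∀ q ∈ Q, ∃ t ∈ T, ∃ n ∈ Q, n ∈ N ∧ t * n = q := fun q hq => by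
    obtain ⟨t, ht, htq⟩ := hfr q
    exact ⟨t⁻¹, inv_mem ht, t * q, mul_mem (hTQ ht) hq, htq, inv_mul_cancel_left t q⟩
  have hCR : ∀ x ∈ Q, (∀ r ∈ R, r * x = x * r) → x ∈ T := by
    intro x hx hxR
    have h1 : π x ∈ centralizer (Cfsg.pPrimeCore p (G ⧸ T) : Set (G ⧸ T)) := by
      refine mem_centralizer_iff.mpr fun k hk => ?_
      obtain ⟨k, rfl⟩ := QuotientGroup.mk'_surjective T k
      obtain ⟨t, ht, r, hr, rfl⟩ := hKTR k hk
      rw [map_mul, show π t = 1 from (QuotientGroup.eq_one_iff t).mpr ht, one_mul, ← map_mul, ← map_mul, hxR r hr]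
    have hO' : Cfsg.pCore p (G ⧸ T) = ⊥ := by
      have hle : (Cfsg.pCore p (G ⧸ T)).comap π ≤ T :=
        CfsgLib.le_pCore (hN := (inferInstance : (Cfsg.pCore p (G ⧸ T)).Normal).comap π)
          ((CfsgLib.isPGroup_pCore p).comap_of_ker_isPGroup π (by rw [hπ, QuotientGroup.ker_mk']; exact hTp))
      rw [eq_bot_iff]
      intro y hy
      obtain ⟨y, rfl⟩ := QuotientGroup.mk'_surjective T y
      exact (QuotientGroup.eq_one_iff y).mpr (hle hy)
    have h2 := CfsgLib.Offender.centralizer_pPrimeCore_le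
      (CfsgLib.PSolvableClosure.of_surjective π (QuotientGroup.mk'_surjective T) hsol) hO' h1
    obtain ⟨k, hk⟩ := S.2 ⟨x, hx⟩
    have hk' : (π x) ^ p ^ k = 1 := by
      rw [← map_pow, show x ^ p ^ k = 1 from congrArg Subtype.val hk, map_one]
    exact (QuotientGroup.eq_one_iff x).mp (orderOf_eq_one_iff.mp (Nat.eq_one_of_dvd_coprimes
      ((CfsgLib.card_pPrimeCore_coprime (G := G ⧸ T) p).pow_right k) (Subgroup.orderOf_dvd_natCard _ h2)
      (orderOf_dvd_of_pow_eq_one hk')))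
  -- an element of the complement centralising `T` is trivial
  have hRtriv : ∀ s ∈ R, (∀ t ∈ T, s * t * s⁻¹ = t) → s = 1 := fun s hs h =>
    hRT s hs (hCT (mem_centralizer_iff.mpr fun t ht => by
      conv_lhs => rw [← h t ht]
      rw [inv_mul_cancel_right]))
  have hcommR : ∀ x ∈ N, ∀ r ∈ R, r * x * r⁻¹ * x⁻¹ ∈ R := fun x hx r hr => by
    rw [show r * x * r⁻¹ * x⁻¹ = r * (x * r⁻¹ * x⁻¹) by group]
    exact mul_mem hr ((Subgroup.mem_normalizer_iff.mp hx _).mp (inv_mem hr))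
  have hTn : ∀ g : G, g ∈ normalizer (T : Set G) := fun g => by rw [normalizer_eq_top]; trivial
  -- assume the contrary
  by_contra hnle
  obtain ⟨q₀, hq₀, hq₀T⟩ := SetLike.not_le_iff_exists.mp hnle
  set A := Q.map π with hA
  haveI hAab : IsMulCommutative A := ⟨⟨by
    rintro ⟨_, a, ha, rfl⟩ ⟨_, b, hb, rfl⟩
    refine Subtype.ext ?_
    show π a * π b = π b * π a
    refine commutatorElement_eq_one_iff_mul_comm.mp ?_
    rw [← map_commutatorElement]
    exact (QuotientGroup.eq_one_iff _).mpr (hDT (hcomm a ha b hb))⟩⟩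
  by_cases hcyc : IsCyclic A
  swap
  · -- the non-cyclic case
    set T₀ := T ⊓ N with hT₀
    set E := D ⊔ T₀ with hE
    have hT₀T : T₀ ≤ T := inf_le_left
    have hET : E ≤ T := sup_le hDT hT₀T
    have hQnormE : Q ≤ normalizer (E : Set G) := by
      intro q hq
      rw [Subgroup.mem_normalizer_iff]
      suffices h : ∀ q ∈ Q, ∀ e ∈ E, q * e * q⁻¹ ∈ E by
        intro e
        exact ⟨h q hq e, fun he => by simpa [mul_assoc] using h q⁻¹ (inv_mem hq) _ he⟩
      intro q hq e he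
      rw [show q * e * q⁻¹ = (q * e * q⁻¹ * e⁻¹) * e by group]
      exact mul_mem (mem_sup_left (hcomm q hq e (hTQ (hET he)))) he
    -- centralisers of elements outside `T` normalise `E`
    have hnormE : ∀ e ∈ Q, e ∈ N → e ∉ T → ∀ r ∈ R, r * e = e * r → ∀ x ∈ E, r * x * r⁻¹ ∈ E := by
      intro e heQ heN heT r hr hre x hx
      have hd : ∀ d ∈ D, r * d * r⁻¹ ∈ E := by
        intro d hd
        obtain ⟨a, haQ, rfl⟩ := hfull e heQ (fun h => heT (hZT h)) d hd
        obtain ⟨t, ht, n, hnQ, hnN, rfl⟩ := hQdec a haQ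
        have hcn : n * e * n⁻¹ * e⁻¹ ∈ T₀ :=
          mem_inf.mpr ⟨hDT (hcomm n hnQ e heQ), mul_mem (mul_mem (mul_mem hnN heN) (inv_mem hnN)) (inv_mem heN)⟩
        have hct := hcomm t (hTQ ht) e heQ
        have e1 : t * n * e * (t * n)⁻¹ * e⁻¹ = (n * e * n⁻¹ * e⁻¹) * (t * e * t⁻¹ * e⁻¹) := by
          have h1 : t * n * e * (t * n)⁻¹ * e⁻¹ = t * (n * e * n⁻¹ * e⁻¹) * t⁻¹ * (t * e * t⁻¹ * e⁻¹) := by group
          rw [h1, hZc _ (hDZ (hcomm n hnQ e heQ)) t (hTQ ht), mul_inv_cancel_right]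
        rw [e1, show r * ((n * e * n⁻¹ * e⁻¹) * (t * e * t⁻¹ * e⁻¹)) * r⁻¹ =
          (r * (n * e * n⁻¹ * e⁻¹) * r⁻¹) * (r * (t * e * t⁻¹ * e⁻¹) * r⁻¹) by group,
          fixed_commute hRT hcn hr]
        refine mul_mem (mem_sup_right hcn) (mem_sup_left ?_)
        have h2 : r * e * r⁻¹ = e := by rw [hre, mul_inv_cancel_right]
        have h3 := hcomm (r * t * r⁻¹) (hTQ ((inferInstance : T.Normal).conj_mem t ht r)) e heQ
        rw [← h2] at h3
        simpa [mul_assoc] using h3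
      have hle : E ≤ E.comap (MulAut.conj r).toMonoidHom := by
        refine sup_le hd ?_
        intro t ht
        show r * t * r⁻¹ ∈ E
        rw [fixed_commute hRT ht hr]
        exact mem_sup_right ht
      exact hle hx
    have hRE : R ≤ normalizer (E : Set G) := by
      intro r hr
      have hgen := CfsgLib.coprime_generated_by_centralizers (A := A) (K := R.map π) hcyc
        (by
          rintro _ ⟨a, ha, rfl⟩
          obtain ⟨t, ht, n, hnQ, hnN, rfl⟩ := hQdec a ha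
          rw [map_mul, show π t = 1 from (QuotientGroup.eq_one_iff t).mpr ht, one_mul]
          exact Subgroup.le_normalizer_map π ⟨n, hnN, rfl⟩)
        (by
          obtain ⟨k, hk⟩ := IsPGroup.iff_card.mp (S.2.map π)
          rw [hk]
          exact ((hRcard.coprime_dvd_left (Subgroup.card_map_dvd _ _)).symm).pow_left k)
      have hle : R.map π ≤ (R ⊓ normalizer (E : Set G)).map π := by
        refine hgen.symm.trans_le (iSup₂_le ?_)
        rintro _ ⟨⟨a, ha, rfl⟩, ha1⟩ _ ⟨⟨r, hr, rfl⟩, hc⟩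
        obtain ⟨t, ht, e, heQ, heN, rfl⟩ := hQdec a ha
        have hπe : π (t * e) = π e := by rw [map_mul, show π t = 1 from (QuotientGroup.eq_one_iff t).mpr ht, one_mul]
        have heT : e ∉ T := fun h => ha1 (hπe ▸ (QuotientGroup.eq_one_iff e).mpr h)
        rw [hπe] at hc
        have hre : r * e = e * r := by
          refine commutatorElement_eq_one_iff_mul_comm.mp (hRT _ ?_ ?_)
          · rw [commutatorElement_def]; exact hcommR e heN r hr
          · refine (QuotientGroup.eq_one_iff _).mp ?_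
            show π ⁅r, e⁆ = 1
            rw [map_commutatorElement]
            exact commutatorElement_eq_one_iff_mul_comm.mpr (mem_centralizer_singleton_iff.mp hc)
        refine ⟨r, mem_inf.mpr ⟨hr, ?_⟩, rfl⟩
        rw [Subgroup.mem_normalizer_iff]
        intro x
        refine ⟨hnormE e heQ heN heT r hr hre x, fun hx => ?_⟩
        have hre' : r⁻¹ * e = e * r⁻¹ := by
          rw [inv_mul_eq_iff_eq_mul, ← mul_assoc, hre, mul_inv_cancel_right]
        simpa [mul_assoc] using hnormE e heQ heN heT r⁻¹ (inv_mem hr) hre' _ hx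
      obtain ⟨r', hr', he⟩ := hle (mem_map_of_mem π hr)
      replace hr' : r' ∈ R ∧ r' ∈ normalizer (E : Set G) := mem_inf.mp hr'
      have h1 : r⁻¹ * r' ∈ T := QuotientGroup.eq.mp he.symm
      rw [← inv_mul_eq_one.mp (hRT _ (mul_mem (inv_mem hr) hr'.1) h1)] at hr'
      exact hr'.2
    obtain ⟨t, ht, x, hxQ, hxN, rfl⟩ := hQdec q₀ hq₀
    have hxT : x ∉ T := fun h => hq₀T (mul_mem ht h)
    refine hxT (hCR x hxQ fun r hr => ?_)
    suffices h : r * x * r⁻¹ * x⁻¹ = 1 by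
      rwa [mul_inv_eq_one, mul_inv_eq_iff_eq_mul] at h
    set s := r * x * r⁻¹ * x⁻¹ with hs
    have hsR : s ∈ R := hcommR x hxN r hr
    refine hRtriv s hsR ?_
    have h1 : Triv T E x := fun t ht => by
      have := hcomm t⁻¹ (inv_mem (hTQ ht)) x hxQ
      exact mem_sup_left (by simpa [mul_assoc] using this)
    have hxT₀ : x ∈ normalizer (T₀ : Set G) := by
      rw [Subgroup.mem_normalizer_iff]
      intro y
      simp only [hT₀, mem_inf]
      rw [← Subgroup.mem_normalizer_iff.mp (hTn x) y]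
      constructor
      · rintro ⟨a, b⟩; exact ⟨a, mul_mem (mul_mem hxN b) (inv_mem hxN)⟩
      · rintro ⟨a, b⟩
        refine ⟨a, ?_⟩
        have := mul_mem (mul_mem (inv_mem hxN) b) hxN
        simpa [mul_assoc] using this
    have hrT₀ : r ∈ normalizer (T₀ : Set G) := by
      rw [Subgroup.mem_normalizer_iff]
      intro y
      refine ⟨fun hy => by rw [fixed_commute hRT hy hr]; exact hy, fun hy => ?_⟩
      have := fixed_commute hRT hy (inv_mem hr)
      rw [show r⁻¹ * (r * y * r⁻¹) * r⁻¹⁻¹ = y by group] at this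
      rwa [← this] at hy
    have h2 : Triv E T₀ x := by
      intro e he
      have hle : E ≤ Q := hET.trans hTQ
      obtain ⟨d, hd, t₀, ht₀, rfl⟩ : ∃ d ∈ D, ∃ t₀ ∈ T₀, d * t₀ = e := by
        have hDn : T₀ ≤ normalizer (D : Set G) := (hT₀T.trans hTQ).trans hQnormD
        exact CfsgLib.mem_sup_of_le_normalizer hDn he
      have e1 : (d * t₀)⁻¹ * (x * (d * t₀) * x⁻¹) = t₀⁻¹ * (x * t₀ * x⁻¹) := by
        rw [show x * (d * t₀) * x⁻¹ = (x * d) * t₀ * x⁻¹ by group, hZc d (hDZ hd) x hxQ]; group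
      rw [e1]
      exact mul_mem (inv_mem ht₀) ((Subgroup.mem_normalizer_iff.mp hxT₀ t₀).mp ht₀)
    have hs0 : ∀ t ∈ T₀, s * t * s⁻¹ = t := fun t ht => fixed_commute hRT ht hsR
    have hs1 : ∀ t ∈ E, s * t * s⁻¹ = t := centralizes_step hTp hT₀T (hRcop s hsR) hs0
      (triv_comm h2 (hRE hr) hrT₀ (hQnormE hxQ) hxT₀)
    exact centralizes_step hTp hET (hRcop s hsR) hs1 (triv_comm h1 (hTn r) (hRE hr) (hTn x) (hQnormE hxQ))
  -- the cyclic case
  obtain ⟨⟨ā, hā⟩⟩ := hcyc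
  obtain ⟨a₀, ha₀, hea⟩ := ā.2
  obtain ⟨ta, hta, x, hxQ, hxN, rfl⟩ := hQdec a₀ ha₀
  have hπx : π x = (ā : G ⧸ T) := by
    rw [← hea, map_mul, show π ta = 1 from (QuotientGroup.eq_one_iff ta).mpr hta, one_mul]
  have hQx : ∀ q ∈ Q, ∃ t ∈ T, ∃ i : ℤ, t * x ^ i = q := by
    intro q hq
    obtain ⟨i, hi⟩ := hā ⟨π q, mem_map_of_mem π hq⟩
    have hi' : (π x) ^ i = π q := by rw [hπx]; exact congrArg Subtype.val hi
    refine ⟨q * (x ^ i)⁻¹, (QuotientGroup.eq_one_iff _).mp ?_, i, inv_mul_cancel_right q _⟩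
    show π (q * (x ^ i)⁻¹) = 1
    rw [map_mul, map_inv, map_zpow, hi', mul_inv_cancel]
  have hxT : x ∉ T := fun h => by
    obtain ⟨t, ht, i, rfl⟩ := hQx q₀ hq₀
    exact hq₀T (mul_mem ht (zpow_mem h i))
  have hxZ : x ∉ Z := fun h => hxT (hZT h)
  have hZiff : ∀ t ∈ T, (∀ u ∈ T, u * t = t * u) → x * t = t * x → t ∈ Z := by
    intro t ht h1 h2
    refine hZmk t (hTQ ht) fun q hq => ?_
    obtain ⟨u, hu, i, rfl⟩ := hQx q hq
    exact ((show Commute u t from h1 u hu).mul_left ((show Commute x t from h2).zpow_left i)).eq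
  have hDx : ∀ d ∈ D, ∃ t ∈ T, t * x * t⁻¹ * x⁻¹ = d := by
    intro d hd
    obtain ⟨a, ha, rfl⟩ := hfull x hxQ hxZ d hd
    obtain ⟨t, ht, i, rfl⟩ := hQx a ha
    exact ⟨t, ht, by group⟩
  have hxQn : x ∈ normalizer (D : Set G) := hQnormD hxQ
  have hfinal : ¬ ∀ r ∈ R, r * x * r⁻¹ * x⁻¹ = 1 := fun h => hxT (hCR x hxQ fun r hr => by
    have := h r hr
    rwa [mul_inv_eq_one, mul_inv_eq_iff_eq_mul] at this)
  have htrivT : Triv T D x := fun t ht => by
    have := hcomm t⁻¹ (inv_mem (hTQ ht)) x hxQ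
    simpa [mul_assoc] using this
  have hxZfix : ∀ z ∈ Z, x * z * x⁻¹ = z := fun z hz => by rw [hZc z hz x hxQ, mul_inv_cancel_right]
  have hxZn : x ∈ normalizer (Z : Set G) := by
    rw [Subgroup.mem_normalizer_iff]
    intro z
    refine ⟨fun hz => by rw [hxZfix z hz]; exact hz, fun hz => ?_⟩
    have := hxZfix _ hz
    have e : x * z * x⁻¹ = z := (MulAut.conj x).injective this
    rwa [e] at hz
  have hxDfix : Triv D ⊥ x := fun d hd => by rw [hxZfix d (hDZ hd), inv_mul_cancel]; exact one_mem _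
  -- `R` cannot normalise `D`
  obtain ⟨r₁, hr₁, hr₁D⟩ : ∃ r ∈ R, r ∉ normalizer (D : Set G) := by
    by_contra h
    push Not at h
    refine hfinal fun r hr => ?_
    set s := r * x * r⁻¹ * x⁻¹
    have hsR : s ∈ R := hcommR x hxN r hr
    have hbn : ∀ g : G, g ∈ normalizer ((⊥ : Subgroup G) : Set G) := fun g => by rw [normalizer_eq_top]; trivial
    refine hRtriv s hsR (centralizes_step hTp hDT (hRcop s hsR) ?_
      (triv_comm htrivT (hTn r) (h r hr) (hTn x) hxQn))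
    refine centralizes_step hTp bot_le (hRcop s hsR) (fun e he => ?_) (triv_comm hxDfix (h r hr) (hbn r) hxQn (hbn x))
    rw [mem_bot] at he
    rw [he, mul_one, mul_inv_cancel]
  -- `D` has order `p` and `T` is abelian
  set D₁ := D ⊓ D.map (MulAut.conj r₁).toMonoidHom with hD₁
  have hD₁D : D₁ ≠ D := fun h => hr₁D (by
    have h1 : D ≤ D.map (MulAut.conj r₁).toMonoidHom := inf_eq_left.mp h
    have h2 := eq_of_le_of_card_ge h1 (card_map_of_injective (MulAut.conj r₁).injective).le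
    rw [Subgroup.mem_normalizer_iff]
    intro d
    refine ⟨fun hd => h2 ▸ mem_map_of_mem _ hd, fun hd => ?_⟩
    rw [h2] at hd
    obtain ⟨d', hd', e⟩ := hd
    exact (MulAut.conj r₁).injective e ▸ hd')
  have hTcomm₁ : ∀ t ∈ T, ∀ u ∈ T, t * u * t⁻¹ * u⁻¹ ∈ D₁ := by
    intro t ht u hu
    refine mem_inf.mpr ⟨hcomm t (hTQ ht) u (hTQ hu), ⟨r₁⁻¹ * (t * u * t⁻¹ * u⁻¹) * r₁, ?_, ?_⟩⟩
    · have := hcomm (r₁⁻¹ * t * r₁) (hTQ (by simpa using (inferInstance : T.Normal).conj_mem t ht r₁⁻¹))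
        (r₁⁻¹ * u * r₁) (hTQ (by simpa using (inferInstance : T.Normal).conj_mem u hu r₁⁻¹))
      simpa [mul_assoc] using this
    · show r₁ * (r₁⁻¹ * (t * u * t⁻¹ * u⁻¹) * r₁) * r₁⁻¹ = _
      group
  have hbot : ∀ M : Subgroup G, D₁ ≤ M → M < D → M = ⊥ := by
    intro M hD₁M hMD
    rw [eq_bot_iff]
    intro d hd
    obtain ⟨v, hv, rfl⟩ := hDx d (hMD.le hd)
    by_cases hvZ : v ∈ Z
    · rw [mem_bot, ← hZc v hvZ x hxQ, mul_inv_cancel_right, mul_inv_cancel]
    exfalso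
    obtain ⟨d', hd', hd'M⟩ := SetLike.exists_of_lt hMD
    obtain ⟨a, ha, rfl⟩ := hfull v (hTQ hv) hvZ d' hd'
    obtain ⟨u, hu, i, rfl⟩ := hQx a ha
    refine hd'M ?_
    have hcz := hcomm (x ^ i) (zpow_mem hxQ i) v (hTQ hv)
    have e1 : u * x ^ i * v * (u * x ^ i)⁻¹ * v⁻¹ = (x ^ i * v * (x ^ i)⁻¹ * v⁻¹) * (u * v * u⁻¹ * v⁻¹) := by
      have h1 : u * x ^ i * v * (u * x ^ i)⁻¹ * v⁻¹ = u * (x ^ i * v * (x ^ i)⁻¹ * v⁻¹) * u⁻¹ * (u * v * u⁻¹ * v⁻¹) := by
        group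
      rw [h1, hZc _ (hDZ hcz) u (hTQ hu), mul_inv_cancel_right]
    rw [e1]
    refine mul_mem ?_ (hD₁M (hTcomm₁ u hu v hv))
    have hc : x * v * x⁻¹ = (x * v * x⁻¹ * v⁻¹) * v := by group
    have hcD := hcomm x hxQ v (hTQ hv)
    have hcM : x * v * x⁻¹ * v⁻¹ ∈ M := by
      have := inv_mem hd
      simpa [mul_assoc] using this
    -- powers of `x`
    have hall : ∀ j : ℕ, x ^ j * v * (x ^ j)⁻¹ * v⁻¹ ∈ M := fun j => by
      rw [conj_pow_of_commute hc (hxZfix _ (hDZ hcD)) j, mul_inv_cancel_right]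
      exact pow_mem hcM j
    obtain ⟨j, hj⟩ := (IsOfFinOrder.mem_powers_iff_mem_zpowers (isOfFinOrder_of_finite x)).mpr ⟨i, rfl⟩
    have hj' : x ^ i = x ^ j := hj.symm
    rw [hj']
    exact hall j
  have hD₁bot : D₁ = ⊥ := hbot D₁ le_rfl (lt_of_le_of_ne inf_le_left hD₁D)
  have hTab : ∀ t ∈ T, ∀ u ∈ T, t * u = u * t := fun t ht u hu => by
    have h1 := hTcomm₁ t ht u hu
    rw [hD₁bot, mem_bot, mul_inv_eq_one, mul_inv_eq_iff_eq_mul] at h1
    exact h1
  have hZmkT : ∀ t ∈ T, x * t = t * x → t ∈ Z := fun t ht => hZiff t ht fun u hu => hTab u hu t ht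
  have hDne : D ≠ ⊥ := fun h => hr₁D (by
    rw [h, normalizer_eq_top]; exact mem_top r₁)
  obtain ⟨z, hzD, hz1⟩ := (Subgroup.bot_or_exists_ne_one D).resolve_left hDne
  obtain ⟨d₀, hd₀D, hd₀p⟩ : ∃ d ∈ D, orderOf d = p := by
    have hne : Nat.card D ≠ 1 := fun h => hDne (card_eq_one.mp h)
    obtain ⟨k, hk⟩ := IsPGroup.iff_card.mp (S.2.to_le hDQ)
    have hdvd : p ∣ Nat.card D := by
      rcases k with _ | k
      · exact absurd (by rw [hk, pow_zero]) hne
      · rw [hk]; exact dvd_pow_self p (Nat.succ_ne_zero k)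
    obtain ⟨d, hd⟩ := exists_prime_orderOf_dvd_card' p hdvd
    exact ⟨d, d.2, by rw [← hd, Subgroup.orderOf_coe]⟩
  have hDgen : D = zpowers d₀ := by
    by_contra hne
    have := hbot (zpowers d₀) (hD₁bot ▸ bot_le) (lt_of_le_of_ne (zpowers_le.mpr hd₀D) (Ne.symm hne))
    rw [zpowers_eq_bot, ← orderOf_eq_one_iff, hd₀p] at this
    exact hp.ne_one this
  have hDcard : Nat.card D = p := by rw [hDgen, Nat.card_zpowers, hd₀p]
  have hDgen' : ∀ d ∈ D, d ≠ 1 → ∀ e ∈ D, ∃ i : ℕ, d ^ i = e := by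
    intro d hd hd1 e he
    have h1 : zpowers (⟨d, hd⟩ : D) = ⊤ :=
      zpowers_eq_top_of_prime_card hDcard fun h => hd1 (congrArg Subtype.val h)
    obtain ⟨i, hi⟩ := (IsOfFinOrder.mem_powers_iff_mem_zpowers (isOfFinOrder_of_finite _)).mpr
      (h1 ▸ mem_top (⟨e, he⟩ : D))
    exact ⟨i, congrArg Subtype.val hi⟩
  -- commutators with `x` are additive on `T`
  have hcx : ∀ v ∈ T, v ∉ Z → x * v * x⁻¹ * v⁻¹ ≠ 1 := fun v hv hvZ h => hvZ (hZmkT v hv (by
    rwa [mul_inv_eq_one, mul_inv_eq_iff_eq_mul] at h))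
  have hTgen : ∀ v ∈ T, v ∉ Z → ∀ t ∈ T, ∃ i : ℕ, t * (v ^ i)⁻¹ ∈ Z := by
    intro v hv hvZ t ht
    obtain ⟨i, hi⟩ := hDgen' _ (hcomm x hxQ v (hTQ hv)) (hcx v hv hvZ) _ (hcomm x hxQ t (hTQ ht))
    refine ⟨i, hZmkT _ (mul_mem ht (inv_mem (pow_mem hv i))) ?_⟩
    set c := x * v * x⁻¹ * v⁻¹ with hc
    have hcv : x * v ^ i * x⁻¹ = c ^ i * v ^ i := by
      rw [← conj_pow, show x * v * x⁻¹ = c * v by rw [hc]; group]
      exact Commute.mul_pow (show Commute c v from (hZc c (hDZ (hcomm x hxQ v (hTQ hv))) v (hTQ hv)).symm) i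
    have hcc : Commute c v := (hZc c (hDZ (hcomm x hxQ v (hTQ hv))) v (hTQ hv)).symm
    have h3 : x * (t * (v ^ i)⁻¹) * x⁻¹ = t * (v ^ i)⁻¹ := by
      have hzz := hZc _ (hDZ (hcomm x hxQ t (hTQ ht))) t (hTQ ht)
      calc x * (t * (v ^ i)⁻¹) * x⁻¹ = (x * t * x⁻¹ * t⁻¹ * t) * (x * v ^ i * x⁻¹)⁻¹ := by group
        _ = (t * (x * t * x⁻¹ * t⁻¹)) * (c ^ i * v ^ i)⁻¹ := by rw [hcv, ← hzz]
        _ = t * (v ^ i)⁻¹ := by rw [← hi, (hcc.pow_pow i i).eq, mul_inv_rev, mul_assoc, mul_inv_cancel_left]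
    exact mul_inv_eq_iff_eq_mul.mp h3
  -- conjugates not normalising `Z`
  have hnot : ∀ r ∈ R, r ∉ normalizer (Z : Set G) → ∃ d ∈ D, r⁻¹ * d * r ∉ Z := by
    intro r hr hrZ
    by_contra hcon
    push Not at hcon
    set Z' := Z.map (MulAut.conj r).toMonoidHom with hZ'
    have hmZ' : ∀ t, t ∈ Z' ↔ r⁻¹ * t * r ∈ Z := fun t => by
      constructor
      · rintro ⟨z', hz', rfl⟩
        simpa [mul_assoc] using hz'
      · intro h
        exact ⟨_, h, by simp [mul_assoc]⟩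
    have hDZ' : D ≤ Z' := fun d hd => (hmZ' d).mpr (hcon d hd)
    have hZ'T : Z' ≤ T := fun t ht => by
      have := (inferInstance : T.Normal).conj_mem _ (hZT ((hmZ' t).mp ht)) r
      simpa [mul_assoc] using this
    set x' := r * x * r⁻¹ with hx'
    have hx'fix : ∀ t ∈ Z', x' * t * x'⁻¹ = t := fun t ht => by
      have h1 := hxZfix _ ((hmZ' t).mp ht)
      calc x' * t * x'⁻¹ = r * (x * (r⁻¹ * t * r) * x⁻¹) * r⁻¹ := by rw [hx']; group
        _ = t := by rw [h1]; group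
    set s := r * x * r⁻¹ * x⁻¹ with hs
    have hsR : s ∈ R := hcommR x hxN r hr
    have hxC : ∀ {C : Subgroup G}, D ≤ C → C ≤ T → ∀ t ∈ C, x⁻¹ * t * x ∈ C := fun hDC hCT' t ht => by
      have := hDC (hcomm x⁻¹ (inv_mem hxQ) _ (hTQ (hCT' ht)))
      simpa [mul_assoc] using mul_mem this ht
    have hsD : ∀ t ∈ D, s * t * s⁻¹ = t := fun t ht => by
      have h1 : x⁻¹ * t * x = t := by
        rw [mul_assoc, ← hZc t (hDZ ht) x hxQ, inv_mul_cancel_left]
      calc s * t * s⁻¹ = x' * (x⁻¹ * t * x) * x'⁻¹ := by rw [hs, hx']; group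
        _ = t := by rw [h1, hx'fix t (hDZ' ht)]
    have hx'Z' : Triv Z' D x' := fun t ht => by rw [hx'fix t ht, inv_mul_cancel]; exact one_mem _
    have hxZ' : Triv Z' D x := fun t ht => htrivT t (hZ'T ht)
    have hsZ' : ∀ t ∈ Z', s * t * s⁻¹ = t :=
      centralizes_step hTp hDT (hRcop s hsR) hsD (hx'Z'.mul (hxZ'.inv (hxC hDZ' hZ'T))
        fun e he => by rw [hx'fix e (hDZ' he)]; exact he)
    have hrD : ∀ d ∈ D, r * d * r⁻¹ ∈ Z' := fun d hd => (hmZ' _).mpr (by simpa [mul_assoc] using hDZ hd)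
    have hx'T : Triv T Z' x' := fun t ht => by
      have hu : r⁻¹ * t * r ∈ T := by simpa using (inferInstance : T.Normal).conj_mem t ht r⁻¹
      have h1 := hrD _ (htrivT _ hu)
      simpa [hx', mul_assoc] using h1
    have hxT' : Triv T Z' x := fun t ht => hDZ' (htrivT t ht)
    have hs1 : s = 1 := hRtriv s hsR (centralizes_step hTp hZ'T (hRcop s hsR) hsZ'
      (hx'T.mul (hxT'.inv (hxC hDT le_rfl)) fun e he => by rw [hx'fix e he]; exact he))
    rw [hs, mul_inv_eq_one] at hs1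
    have hle : Z' ≤ Z := fun t ht => hZmkT t (hZ'T ht) (by
      have := hx'fix t ht
      rw [hx', hs1, mul_inv_eq_iff_eq_mul] at this
      exact this)
    have heq := eq_of_le_of_card_ge hle (card_map_of_injective (MulAut.conj r).injective).ge
    refine hrZ (Subgroup.mem_normalizer_iff.mpr fun t => ?_)
    constructor
    · intro ht
      exact heq ▸ mem_map_of_mem _ ht
    · intro ht
      rw [← heq, hmZ'] at ht
      simpa [mul_assoc] using ht
  obtain ⟨r, hr, hrZ⟩ : ∃ r ∈ R, r ∉ normalizer (Z : Set G) := by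
    by_contra h
    push Not at h
    refine hfinal fun r hr => ?_
    set s := r * x * r⁻¹ * x⁻¹
    have hsR : s ∈ R := hcommR x hxN r hr
    have hbn : ∀ g : G, g ∈ normalizer ((⊥ : Subgroup G) : Set G) := fun g => by rw [normalizer_eq_top]; trivial
    refine hRtriv s hsR (centralizes_step hTp hZT (hRcop s hsR) ?_
      (triv_comm (fun t ht => hDZ (htrivT t ht)) (hTn r) (h r hr) (hTn x) hxZn))
    refine centralizes_step hTp bot_le (hRcop s hsR) (fun e he => ?_)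
      (triv_comm (C := Z) (E := ⊥) (fun t ht => by rw [hxZfix t ht, inv_mul_cancel]; exact one_mem _)
        (h r hr) (hbn r) hxZn (hbn x))
    rw [mem_bot] at he
    rw [he, mul_one, mul_inv_cancel]
  obtain ⟨d₁, hd₁, hd₁Z⟩ := hnot r hr hrZ
  obtain ⟨z, hzD, hzy⟩ := hnot r⁻¹ (inv_mem hr) (fun h => hrZ (by simpa using inv_mem h))
  rw [inv_inv] at hzy
  clear hz1
  set y := r * z * r⁻¹ with hy
  have hz1 : z ≠ 1 := fun h => hzy (by rw [hy, h, mul_one, mul_inv_cancel]; exact one_mem _)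
  have hd₁z : r⁻¹ * z * r ∉ Z := fun h => hd₁Z (by
    obtain ⟨i, rfl⟩ := hDgen' z hzD hz1 d₁ hd₁
    have := pow_mem h i
    have e : (r⁻¹ * z * r) ^ i = r⁻¹ * z ^ i * r := by
      have := conj_pow (i := i) (a := r⁻¹) (b := z)
      simpa using this
    rwa [e] at this)
  have hzp : z ^ p = 1 := by
    have := congrArg Subtype.val (pow_card_eq_one' (G := D) (x := ⟨z, hzD⟩))
    rwa [hDcard] at this
  have hyT : y ∈ T := (inferInstance : T.Normal).conj_mem z (hDT hzD) r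
  have hyp : y ^ p = 1 := by rw [hy, conj_pow, hzp, mul_one, mul_inv_cancel]
  -- the index of the centre
  have hidx : (center Q).index = p ^ 2 := by
    have h1 : (center Q).index = Z.relIndex Q := by
      rw [relIndex, hZdef, subgroupOf, comap_map_eq_self_of_injective Q.subtype_injective]
    rw [h1, ← relIndex_mul_relIndex Z T Q hZT hTQ, pow_two]
    congr 1
    · -- `|T : Z| = p`
      let f : T →* D :=
        MonoidHom.mk' (fun t => ⟨x * (t : G) * x⁻¹ * (t : G)⁻¹, hcomm x hxQ t (hTQ t.2)⟩) fun t u => Subtype.ext (by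
          show x * ((t : G) * u) * x⁻¹ * ((t : G) * u)⁻¹ = (x * t * x⁻¹ * (t : G)⁻¹) * (x * u * x⁻¹ * (u : G)⁻¹)
          have e : x * ((t : G) * u) * x⁻¹ * ((t : G) * u)⁻¹ =
              (x * t * x⁻¹ * (t : G)⁻¹) * ((t : G) * (x * u * x⁻¹ * (u : G)⁻¹) * (t : G)⁻¹) := by group
          rw [e, hZc _ (hDZ (hcomm x hxQ u (hTQ u.2))) t (hTQ t.2), mul_inv_cancel_right])
      have hk : f.ker = Z.subgroupOf T := by
        ext t
        rw [MonoidHom.mem_ker, mem_subgroupOf]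
        refine ⟨fun h => hZmkT t t.2 ?_, fun h => Subtype.ext ?_⟩
        · have h' : x * (t : G) * x⁻¹ * (t : G)⁻¹ = 1 := congrArg Subtype.val h
          rwa [mul_inv_eq_one, mul_inv_eq_iff_eq_mul] at h'
        · show x * (t : G) * x⁻¹ * (t : G)⁻¹ = 1
          rw [hxZfix t h, mul_inv_cancel]
      have hr' : f.range = ⊤ := by
        refine top_le_iff.mp fun d _ => ?_
        obtain ⟨t, ht, e⟩ := hDx (d : G)⁻¹ (inv_mem d.2)
        refine ⟨⟨t, ht⟩, Subtype.ext ?_⟩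
        show x * t * x⁻¹ * t⁻¹ = d
        rw [← inv_inv (d : G), ← e]; group
      rw [relIndex, ← hk, index_ker, hr', card_top, hDcard]
    · rw [hrelT]
      have e : Q.map π = zpowers (π x) := by
        refine le_antisymm ?_ (zpowers_le.mpr (mem_map_of_mem π hxQ))
        rintro _ ⟨q, hq, rfl⟩
        obtain ⟨t, ht, i, rfl⟩ := hQx q hq
        rw [map_mul, show π t = 1 from (QuotientGroup.eq_one_iff t).mpr ht, one_mul, map_zpow]
        exact zpow_mem (mem_zpowers _) i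
      rw [e, Nat.card_zpowers]
      refine orderOf_eq_prime ?_ fun h => hxT ((QuotientGroup.eq_one_iff x).mp h)
      rw [← map_pow]
      exact (QuotientGroup.eq_one_iff _).mpr (hZT (hpowZ x hxQ))
  obtain ⟨hp3, hp2⟩ := hS.small hidx
  have hpne2 : p ≠ 2 := fun h => hzy (by
    have h1 := hp2 h ⟨y, hTQ hyT⟩ (Subtype.ext (by rw [h] at hyp; exact hyp))
    exact ⟨_, h1, rfl⟩)
  -- the two transvections
  set c := x * y * x⁻¹ * y⁻¹ with hc
  have hcD : c ∈ D := hcomm x hxQ y (hTQ hyT)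
  obtain ⟨i, hi⟩ := hDgen' c hcD (hcx y hyT hzy) z hzD
  set U := x ^ i with hU
  have hUy : U * y * U⁻¹ = z * y := by
    rw [hU, conj_pow_of_commute (show x * y * x⁻¹ = c * y by rw [hc]; group) (hxZfix c (hDZ hcD)), hi]
  have hUfix : ∀ t ∈ Z, U * t * U⁻¹ = t := fun t ht => by
    rw [hU, hZc t ht _ (pow_mem hxQ i), mul_inv_cancel_right]
  set u := r⁻¹ * z * r with hu
  have huT : u ∈ T := by simpa [hu] using (inferInstance : T.Normal).conj_mem z (hDT hzD) r⁻¹
  set c' := x * u * x⁻¹ * u⁻¹ with hc'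
  obtain ⟨j, hj⟩ := hDgen' c' (hcomm x hxQ u (hTQ huT)) (hcx u huT hd₁z) z hzD
  set L := r * x ^ j * r⁻¹ with hL
  have hLz : L * z * L⁻¹ = y * z := by
    have h1 : x ^ j * u * (x ^ j)⁻¹ = z * u := by
      rw [conj_pow_of_commute (show x * u * x⁻¹ = c' * u by rw [hc']; group)
        (hxZfix c' (hDZ (hcomm x hxQ u (hTQ huT)))), hj]
    calc L * z * L⁻¹ = r * (x ^ j * u * (x ^ j)⁻¹) * r⁻¹ := by rw [hL, hu]; group
      _ = y * z := by rw [h1, hy, hu]; group
  have hLfix : ∀ t, r⁻¹ * t * r ∈ Z → L * t * L⁻¹ = t := fun t ht => by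
    calc L * t * L⁻¹ = r * (x ^ j * (r⁻¹ * t * r) * (x ^ j)⁻¹) * r⁻¹ := by rw [hL]; group
      _ = t := by rw [hZc _ ht _ (pow_mem hxQ j)]; group
  obtain ⟨m, hm⟩ : ∃ m : ℕ, p = 2 * m + 1 := (hp.odd_of_ne_two hpne2)
  have hzy' : Commute z y := hTab z (hDT hzD) y hyT
  let φ : G → MulAut G := fun g => MulAut.conj g
  have hUz : φ U z = z := hUfix z (hDZ hzD)
  have hUy' : φ U y = z * y := hUy
  have hLz' : φ L z = y * z := hLz
  have hLy : φ L y = y := hLfix y (by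
    rw [hy]
    simpa [mul_assoc] using hDZ hzD)
  have hφmul : ∀ a b t, φ (a * b) t = φ a (φ b t) := fun a b t => by
    show MulAut.conj (a * b) t = _
    rw [map_mul]; rfl
  have hφinv : ∀ {a t s}, φ a t = s → φ a⁻¹ s = t := fun {a t s} h => by
    rw [← h, ← hφmul, inv_mul_cancel]
    show MulAut.conj (1 : G) t = t
    rw [map_one]; rfl
  set w := U * U * L ^ m * (U * U) with hw
  set v := U⁻¹ * L * U⁻¹ with hv
  set h := w * v with hh
  have hLm : φ (L ^ m) z = y ^ m * z :=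
    conj_pow_of_commute hLz (hLfix y (by rw [hy]; simpa [mul_assoc] using hDZ hzD)) m
  have hLm' : φ (L ^ m) y = y := by
    have := conj_pow_of_commute (a := L) (b := y) (c := 1) (by rw [one_mul]; exact hLy) (by group) m
    rwa [one_pow, one_mul] at this
  have hU2y : φ (U * U) y = z ^ 2 * y := by
    rw [hφmul, hUy', map_mul, hUz, hUy', pow_two, mul_assoc]
  have hU2z : φ (U * U) z = z := by rw [hφmul, hUz, hUz]
  have e2 : ∀ n, z ^ n * y = y * z ^ n := fun n => (hzy'.pow_left n).eq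
  have hzm : z ^ (2 * m) * z = 1 := by rw [← pow_succ, ← hm, hzp]
  have hym : y ^ (2 * m) * y = 1 := by rw [← pow_succ, ← hm, hyp]
  have hwz : φ w z = y ^ m := by
    rw [hw, hφmul, hU2z, hφmul, hLm, map_mul, map_pow, hU2y, hU2z,
      (hzy'.pow_left 2).mul_pow, ← pow_mul, mul_assoc, ((hzy'.pow_right m).symm).eq, ← mul_assoc, hzm, one_mul]
  have hwy : φ w y = z ^ 2 := by
    rw [hw, hφmul, hU2y, hφmul, map_mul, map_pow, hLm, hLm', ((hzy'.pow_right m).symm).mul_pow, ← pow_mul,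
      mul_comm m 2]
    rw [show y ^ (2 * m) * z ^ 2 * y = y ^ (2 * m) * (z ^ 2 * y) by group, e2, ← mul_assoc, hym, one_mul, map_pow,
      hU2z]
  have hUiy : φ U⁻¹ y = z⁻¹ * y := by
    refine hφinv ?_
    rw [map_mul, map_inv, hUz, hUy', inv_mul_cancel_left]
  have hUiz : φ U⁻¹ z = z := hφinv hUz
  have hvz : φ v z = y := by
    rw [hv, hφmul, hUiz, hφmul, hLz', map_mul, hUiy, hUiz, mul_assoc, ← hzy'.eq, inv_mul_cancel_left]
  have hvy : φ v y = z⁻¹ := by
    rw [hv, hφmul, hUiy, hφmul, map_mul, map_inv, hLz', hLy, mul_inv_rev, mul_assoc, inv_mul_cancel, mul_one,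
      map_inv, hUiz]
  have hhz : φ h z = z ^ 2 := by rw [hh, hφmul, hvz, hwy]
  have hhy : φ h y = (y ^ m)⁻¹ := by rw [hh, hφmul, hvy, map_inv, hwz]
  have hU4y : φ (U ^ 4) y = z ^ 4 * y := conj_pow_of_commute hUy (hUfix z (hDZ hzD)) 4
  have hU4z : φ (U ^ 4) z = z := by
    have := conj_pow_of_commute (a := U) (b := z) (c := 1) (by rw [one_mul]; exact hUz) (by group) 4
    rwa [one_pow, one_mul] at this
  set e := (U ^ 4 * h)⁻¹ * (h * U) with he
  have hkey1 : φ (h * U) z = φ (U ^ 4 * h) z := by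
    rw [hφmul, hUz, hhz, hφmul, hhz, map_pow, hU4z]
  have hkey2 : φ (h * U) y = φ (U ^ 4 * h) y := by
    rw [hφmul, hUy', map_mul, hhz, hhy, hφmul, hhy, map_inv, map_pow, hU4y, (hzy'.pow_left 4).mul_pow, mul_inv_rev,
      ← pow_mul]
    have hz4 : (z ^ (4 * m))⁻¹ = z ^ 2 := by
      refine inv_eq_of_mul_eq_one_right ?_
      rw [← pow_add, show 4 * m + 2 = p * 2 by omega, pow_mul, hzp, one_pow]
    rw [hz4, (hzy'.pow_pow 2 m).inv_right.eq]
  have heT : ∀ t ∈ T, φ e t = t := by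
    have hez : φ e z = z := by rw [he, hφmul, hkey1]; exact hφinv rfl
    have hey : φ e y = y := by rw [he, hφmul, hkey2]; exact hφinv rfl
    have hF : ∀ f, f ∈ Z → r⁻¹ * f * r ∈ Z → φ e f = f := by
      intro f hf hf'
      let Cf : Subgroup G := centralizer ({f} : Set G)
      have hUC : U ∈ Cf := mem_centralizer_singleton_iff.mpr (mul_inv_eq_iff_eq_mul.mp (hUfix f hf))
      have hLC : L ∈ Cf := mem_centralizer_singleton_iff.mpr (mul_inv_eq_iff_eq_mul.mp (hLfix f hf'))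
      have hhC : h ∈ Cf := mul_mem (mul_mem (mul_mem (mul_mem hUC hUC) (pow_mem hLC m)) (mul_mem hUC hUC))
        (mul_mem (mul_mem (inv_mem hUC) hLC) (inv_mem hUC))
      have heC : e ∈ Cf := mul_mem (inv_mem (mul_mem (pow_mem hUC 4) hhC)) (mul_mem hhC hUC)
      exact mul_inv_eq_iff_eq_mul.mpr (mem_centralizer_singleton_iff.mp heC)
    intro t ht
    obtain ⟨a, ha⟩ := hTgen y hyT hzy t ht
    set f₁ := t * (y ^ a)⁻¹ with hf₁
    have hf₁T : r⁻¹ * f₁ * r ∈ T := by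
      simpa using (inferInstance : T.Normal).conj_mem f₁ (hZT ha) r⁻¹
    obtain ⟨b, hb⟩ := hTgen u huT hd₁z _ hf₁T
    set f := f₁ * (z ^ b)⁻¹ with hf
    have hfb : r⁻¹ * f * r ∈ Z := by
      have e : u ^ b = r⁻¹ * z ^ b * r := by
        have := conj_pow (i := b) (a := r⁻¹) (b := z)
        simpa [hu] using this
      rw [e] at hb
      convert hb using 1
      rw [hf]; group
    rw [show t = f * z ^ b * y ^ a by rw [hf, hf₁]; group, map_mul, map_mul, map_pow, map_pow, hez, hey,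
      hF f (mul_mem ha (inv_mem (pow_mem (hDZ hzD) b))) hfb]
  have heTT : e ∈ T := hCT (mem_centralizer_iff.mpr fun t ht => (mul_inv_eq_iff_eq_mul.mp (heT t ht)).symm)
  -- modulo `K`
  set κ := QuotientGroup.mk' K
  have hκr : κ r = 1 := (QuotientGroup.eq_one_iff r).mpr (hRK hr)
  have hκL : κ L = κ x ^ j := by rw [hL, map_mul, map_mul, map_inv, hκr, map_pow, one_mul, inv_one, mul_one]
  have hcommU : Commute (κ U) (κ L) := by rw [hκL, hU, map_pow]; exact (Commute.refl _).pow_pow i j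
  have hch : Commute (κ h) (κ U) := by
    rw [hh, hw, hv]
    simp only [map_mul, map_inv, map_pow]
    have hUU := Commute.refl (κ U)
    exact (((hUU.mul_left hUU).mul_left (hcommU.symm.pow_left m)).mul_left (hUU.mul_left hUU)).mul_left
      ((hUU.inv_left.mul_left hcommU.symm).mul_left hUU.inv_left)
  have h3 : κ U ^ 3 = 1 := by
    have h1 : κ e = 1 := (QuotientGroup.eq_one_iff e).mpr (hTK heTT)
    rw [he, map_mul, map_inv, inv_mul_eq_one, map_mul κ h U, map_mul κ (U ^ 4) h, map_pow, hch.eq, pow_succ (κ U) 3,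
      mul_assoc] at h1
    exact mul_eq_right.mp h1
  have hUp : κ x ^ p = 1 := by
    rw [← map_pow]
    exact (QuotientGroup.eq_one_iff _).mpr (hTK (hZT (hpowZ x hxQ)))
  have hκx : κ x = 1 := by
    have hip : ¬ p ∣ i := by
      rintro ⟨l, rfl⟩
      refine hz1 ?_
      rw [← hi, pow_mul]
      have : c ^ p = 1 := by
        have := congrArg Subtype.val (pow_card_eq_one' (G := D) (x := ⟨c, hcD⟩))
        rwa [hDcard] at this
      rw [this, one_pow]
    have h4 : κ x ^ (i * 3) = 1 := by rw [pow_mul, ← map_pow]; exact h3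
    have hcop : Nat.Coprime (i * 3) p :=
      Nat.Coprime.mul_left (hp.coprime_iff_not_dvd.mpr hip).symm ((Nat.coprime_primes Nat.prime_three hp).mpr (Ne.symm hp3))
    exact orderOf_eq_one_iff.mp (Nat.eq_one_of_dvd_coprimes hcop (orderOf_dvd_of_pow_eq_one h4)
      (orderOf_dvd_of_pow_eq_one hUp))
  have hxK : π x ∈ Cfsg.pPrimeCore p (G ⧸ T) := (QuotientGroup.eq_one_iff x).mp hκx
  exact hxT ((QuotientGroup.eq_one_iff x).mp (orderOf_eq_one_iff.mp (Nat.eq_one_of_dvd_coprimes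
    (CfsgLib.card_pPrimeCore_coprime (G := G ⧸ T) p) (Subgroup.orderOf_dvd_natCard _ hxK)
    (orderOf_dvd_of_pow_eq_one (show (π x) ^ p = 1 by rw [← map_pow]; exact (QuotientGroup.eq_one_iff _).mpr (hZT (hpowZ x hxQ)))))))

end CfsgLib.SchmidtType
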