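import Cfsg.Agent.Lib.StrongFusion.Functors
import Cfsg.Agent.S0655
import Cfsg.Prelude.Def_PLocal

/-!
Naturality of the Thompson subgroup and of the stable normal closure `W(S)`.
-/

set_option autoImplicit false
set_option linter.unusedSectionVars false

namespace CfsgLib.PLocal

open CfsgLib Cfsg
open scoped Pointwise

universe u
variable {p : ℕ}

theorem map_omega {X Y : Type*} [Group X] [Group Y] (f : X →* Y) (hf : Function.Injective f) (H : Subgroup X) :
    (omegaOne p H).map f = omegaOne p (H.map f) := by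
  rw [omegaOne, omegaOne, MonoidHom.map_closure]
  congr 1
  ext y
  constructor
  · rintro ⟨x, ⟨hx, hxp⟩, rfl⟩
    exact ⟨⟨x, hx, rfl⟩, by rw [← map_pow, hxp, map_one]⟩
  · rintro ⟨⟨x, hx, rfl⟩, hxp⟩
    exact ⟨x, ⟨hx, hf (by rw [map_pow, hxp, map_one])⟩, rfl⟩

theorem mem_maxElementary_map {S S' : Type u} [Group S] [Group S'] (η : S ≃* S') {A : Subgroup S}
    (hA : A ∈ maxElementaryAbelianSubgroups p S) :
    A.map η.toMonoidHom ∈ maxElementaryAbelianSubgroups p S' := by
  obtain ⟨⟨hAc, hAe⟩, hmax⟩ := hA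
  refine ⟨⟨inferInstance, ?_⟩, fun B hB => ?_⟩
  · rintro _ ⟨a, ha, rfl⟩
    rw [← map_pow, hAe a ha, map_one]
  · obtain ⟨hBc, hBe⟩ := hB
    have h := hmax (B.map η.symm.toMonoidHom) ⟨inferInstance, by
      rintro _ ⟨b, hb, rfl⟩; rw [← map_pow, hBe b hb, map_one]⟩
    rw [Subgroup.card_map_of_injective η.symm.injective] at h
    rwa [Subgroup.card_map_of_injective η.injective]

theorem thompsonSubgroup_map {S S' : Type u} [Group S] [Group S'] (η : S ≃* S') :
    (thompsonSubgroup p S).map η.toMonoidHom = thompsonSubgroup p S' := by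
  have h : ∀ {S S' : Type u} [Group S] [Group S'] (η : S ≃* S'),
      (thompsonSubgroup p S).map η.toMonoidHom ≤ thompsonSubgroup p S' := fun η => by
    rw [Subgroup.map_le_iff_le_comap]
    exact sSup_le fun A hA =>
      Subgroup.map_le_iff_le_comap.1 (le_sSup (mem_maxElementary_map η hA))
  refine le_antisymm (h η) fun x hx => ⟨η.symm x, h η.symm ⟨x, hx, rfl⟩, η.apply_symm_apply x⟩

theorem map_inf_centralizer {X Y : Type*} [Group X] [Group Y] (f : X →* Y) (hf : Function.Injective f)
    (J : Subgroup X) :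
    (J ⊓ Subgroup.centralizer (J : Set X)).map f = J.map f ⊓ Subgroup.centralizer ((J.map f) : Set Y) := by
  ext y
  constructor
  · rintro ⟨x, ⟨hxJ, hxc⟩, rfl⟩
    refine ⟨⟨x, hxJ, rfl⟩, ?_⟩
    rintro _ ⟨z, hz, rfl⟩
    rw [← map_mul, ← map_mul, hxc z hz]
  · rintro ⟨⟨x, hxJ, rfl⟩, hc⟩
    exact ⟨x, ⟨hxJ, fun z hz => hf (by rw [map_mul, map_mul, hc _ ⟨z, hz, rfl⟩])⟩, rfl⟩

theorem omegaCenterThompson_map {S S' : Type u} [Group S] [Group S'] (η : S ≃* S') :
    (omegaCenterThompson p S).map η.toMonoidHom = omegaCenterThompson p S' := by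
  unfold omegaCenterThompson
  rw [map_omega _ η.injective, map_inf_centralizer _ η.injective, thompsonSubgroup_map]

theorem omegaCenter_map {S S' : Type u} [Group S] [Group S'] (η : S ≃* S') :
    (omegaOne p (Subgroup.center S)).map η.toMonoidHom = omegaOne p (Subgroup.center S') := by
  rw [map_omega _ η.injective]
  congr 1
  ext y
  constructor
  · rintro ⟨x, hx, rfl⟩
    refine Subgroup.mem_center_iff.2 fun z => ?_
    obtain ⟨z, rfl⟩ := η.surjective z
    show η z * η x = η x * η z
    rw [← map_mul, ← map_mul, Subgroup.mem_center_iff.1 hx z]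
  · intro hy
    refine ⟨η.symm y, Subgroup.mem_center_iff.2 fun z => η.injective ?_, η.apply_symm_apply y⟩
    rw [map_mul, map_mul, η.apply_symm_apply, Subgroup.mem_center_iff.1 hy (η z)]

theorem isStableEmbedding_comp {S S' H : Type u} [Group S] [Group S'] [Group H] (η : S ≃* S') {τ : S' →* H}
    (h : IsStableEmbedding p τ) : IsStableEmbedding p (τ.comp η.toMonoidHom) := by
  obtain ⟨hinj, hfin, ⟨P, hP⟩, hc, hJ, hV⟩ := h
  refine ⟨hinj.comp η.injective, hfin, ⟨P, ?_⟩, hc, ?_, fun V _ hle => hV V ?_⟩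
  · rw [hP, MonoidHom.range_comp,
      MonoidHom.range_eq_top.2 (show Function.Surjective η.toMonoidHom from η.surjective),
      ← MonoidHom.range_eq_map]
  · rwa [← Subgroup.map_map, thompsonSubgroup_map]
  · rwa [← Subgroup.map_map, omegaCenterThompson_map] at hle

theorem stableNormalClosure_map {S S' : Type u} [Group S] [Group S'] (η : S ≃* S') :
    (stableNormalClosure p S).map η.toMonoidHom = stableNormalClosure p S' := by
  have h : ∀ {S S' : Type u} [Group S] [Group S'] (η : S ≃* S'),
      stableNormalClosure p S ≤ (stableNormalClosure p S').comap η.toMonoidHom := by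
    intro S S' _ _ η x hx
    refine Subgroup.mem_sInf.2 fun W' hW' => ?_
    refine Subgroup.mem_sInf.1 hx (W'.comap η.toMonoidHom) ⟨?_, fun H _ τ hτ => ?_⟩
    · exact Subgroup.map_le_iff_le_comap.1 ((omegaCenter_map η).le.trans hW'.1)
    · have h2 := hW'.2 H (τ.comp η.symm.toMonoidHom) (isStableEmbedding_comp η.symm hτ)
      rw [← Subgroup.map_map] at h2
      convert h2 using 2
      ext z
      exact ⟨fun hz => ⟨η z, hz, η.symm_apply_apply z⟩, fun ⟨w, hw, e⟩ => by
        show η z ∈ W'
        rw [← e]; simpa using hw⟩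
  refine le_antisymm (Subgroup.map_le_iff_le_comap.2 (h η)) fun x hx =>
    ⟨η.symm x, h η.symm hx, η.apply_symm_apply x⟩

theorem stableNormalClosure_characteristic (S : Type u) [Group S] :
    (stableNormalClosure p S).Characteristic :=
  Subgroup.characteristic_iff_map_eq.2 fun η => stableNormalClosure_map η

theorem omegaCenter_le (S : Type u) [Group S] : omegaOne p (Subgroup.center S) ≤ stableNormalClosure p S :=
  le_sInf fun _ hW => hW.1

variable [Fact p.Prime]

theorem omegaCenterThompson_mem {S : Type u} [Group S] [Finite S] (hS : IsPGroup p S) :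
    omegaOne p (Subgroup.center S) ≤ omegaCenterThompson p S ∧
      ∀ (H : Type u) [Group H] (τ : S →* H), IsStableEmbedding p τ → ((omegaCenterThompson p S).map τ).Normal := by
  obtain ⟨-, h2⟩ := Cfsg.Agent.S0655.result hS
  refine ⟨?_, fun H _ τ hτ => ?_⟩
  · rw [h2]
    exact Subgroup.closure_mono fun x hx => ⟨fun y _ => Subgroup.mem_center_iff.1 hx.1 y, hx.2⟩
  · have hJ := hτ.2.2.2.2.1
    unfold omegaCenterThompson
    rw [map_omega _ hτ.1, map_inf_centralizer _ hτ.1, omegaOne]
    suffices hg : ∀ g : H, Subgroup.closure {x | x ∈ (thompsonSubgroup p S).map τ ⊓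
        Subgroup.centralizer (((thompsonSubgroup p S).map τ : Subgroup H) : Set H) ∧ x ^ p = 1} ≤
        (Subgroup.closure {x | x ∈ (thompsonSubgroup p S).map τ ⊓
        Subgroup.centralizer (((thompsonSubgroup p S).map τ : Subgroup H) : Set H) ∧ x ^ p = 1}).comap
          (MulAut.conj g).toMonoidHom from ⟨fun x hx g => hg g hx⟩
    intro g
    rw [Subgroup.closure_le]
    rintro x ⟨⟨hxJ, hxc⟩, hxp⟩
    refine Subgroup.subset_closure ⟨⟨hJ.conj_mem _ hxJ g, fun z hz => ?_⟩, ?_⟩
    · have hz' : g⁻¹ * z * g⁻¹⁻¹ ∈ (thompsonSubgroup p S).map τ := hJ.conj_mem _ hz g⁻¹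
      have := congrArg (fun w => g * w * g⁻¹) (hxc _ hz')
      simpa [mul_assoc] using this
    · rw [← map_pow, hxp, map_one]

theorem stableNormalClosure_le {S : Type u} [Group S] [Finite S] (hS : IsPGroup p S) :
    stableNormalClosure p S ≤ omegaCenterThompson p S :=
  sInf_le (omegaCenterThompson_mem hS)

end CfsgLib.PLocal
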