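import Cfsg.Agent.Lib.PLocal.StableClosure
import Cfsg.Agent.Lib.Basic

/-!
Elements acting quadratically on `W(S)` centralise it.
-/

set_option autoImplicit false
set_option linter.unusedSectionVars false

namespace CfsgLib.PLocal

open CfsgLib Cfsg
open scoped Pointwise commutatorElement

universe u
variable {p : ℕ}

theorem stableNormalClosure_map_normal {S H : Type u} [Group S] [Group H] {τ : S →* H}
    (hτ : IsStableEmbedding p τ) (hne : ∃ W : Subgroup S, omegaOne p (Subgroup.center S) ≤ W ∧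
      ∀ (H : Type u) [Group H] (τ : S →* H), IsStableEmbedding p τ → (W.map τ).Normal) :
    ((stableNormalClosure p S).map τ).Normal := by
  refine ⟨fun y hy g => ?_⟩
  obtain ⟨w, hw, rfl⟩ := hy
  obtain ⟨W₀, hW₀⟩ := hne
  obtain ⟨w', -, hw'⟩ := (hW₀.2 H τ hτ).conj_mem _ ⟨w, Subgroup.mem_sInf.1 hw _ hW₀, rfl⟩ g
  refine ⟨w', Subgroup.mem_sInf.2 fun W hW => ?_, hw'⟩
  obtain ⟨w'', hw'', e⟩ := (hW.2 H τ hτ).conj_mem _ ⟨w, Subgroup.mem_sInf.1 hw _ hW, rfl⟩ g
  rwa [← hτ.1 (e.trans hw'.symm)]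

theorem quad_congr {X : Type*} [Group X] {V : Subgroup X} [hV : V.Normal] {h s : X}
    (he : (QuotientGroup.mk s : X ⧸ Subgroup.centralizer (V : Set X)) = QuotientGroup.mk h)
    (hq : ⁅⁅V, Subgroup.zpowers h⁆, Subgroup.zpowers h⁆ = ⊥) :
    ⁅⁅V, Subgroup.zpowers s⁆, Subgroup.zpowers s⁆ = ⊥ := by
  have key : ∀ W : Subgroup X, W ≤ V → ⁅W, Subgroup.zpowers s⁆ ≤ ⁅W, Subgroup.zpowers h⁆ := by
    intro W hW
    refine Subgroup.commutator_le.2 fun v hv t ht => ?_
    obtain ⟨n, rfl⟩ := ht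
    show ⁅v, s ^ n⁆ ∈ _
    set c := s ^ n * (h ^ n)⁻¹ with hc'
    have hc : c ∈ Subgroup.centralizer (V : Set X) := by
      rw [← QuotientGroup.eq_one_iff, hc', QuotientGroup.mk_mul, QuotientGroup.mk_inv, QuotientGroup.mk_zpow,
        QuotientGroup.mk_zpow, he, mul_inv_cancel]
    have hvV : h ^ n * v⁻¹ * (h ^ n)⁻¹ ∈ V := hV.conj_mem _ (V.inv_mem (hW hv)) _
    have e : ⁅v, s ^ n⁆ = ⁅v, h ^ n⁆ := by
      have hs : s ^ n = c * h ^ n := by rw [hc', inv_mul_cancel_right]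
      have h2 : c * (h ^ n * v⁻¹ * (h ^ n)⁻¹) * c⁻¹ = h ^ n * v⁻¹ * (h ^ n)⁻¹ := by
        rw [← hc _ hvV, mul_inv_cancel_right]
      rw [commutatorElement_def, commutatorElement_def, hs]
      calc v * (c * h ^ n) * v⁻¹ * (c * h ^ n)⁻¹ = v * (c * (h ^ n * v⁻¹ * (h ^ n)⁻¹) * c⁻¹) := by group
        _ = _ := by rw [h2]; group
    rw [e]
    exact Subgroup.commutator_mem_commutator hv ⟨n, rfl⟩
  have hle : ⁅V, Subgroup.zpowers h⁆ ≤ V := Subgroup.commutator_le_left _ _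
  exact le_bot_iff.1 (((Subgroup.commutator_mono (key V le_rfl) le_rfl).trans (key _ hle)).trans hq.le)

theorem quad_conj {X : Type*} [Group X] {V : Subgroup X} [V.Normal] {a : X} (g : X)
    (hq : ⁅⁅V, Subgroup.zpowers a⁆, Subgroup.zpowers a⁆ = ⊥) :
    ⁅⁅V, Subgroup.zpowers (g * a * g⁻¹)⁆, Subgroup.zpowers (g * a * g⁻¹)⁆ = ⊥ := by
  have h := congrArg (Subgroup.map (MulAut.conj g).toMonoidHom) hq
  rw [Subgroup.map_commutator, Subgroup.map_commutator, Subgroup.map_bot, MonoidHom.map_zpowers] at h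
  rw [show V.map (MulAut.conj g).toMonoidHom = V from Subgroup.Normal.map_conj_eq V g] at h
  exact h

theorem centralizes_of_quad {S : Type u} [Group S] [Finite S] [Fact p.Prime] (hS : IsPGroup p S) {x : S}
    (hq : ⁅⁅stableNormalClosure p S, Subgroup.zpowers x⁆, Subgroup.zpowers x⁆ = ⊥) :
    stableNormalClosure p S ≤ Subgroup.centralizer ({x} : Set S) := by
  set W := stableNormalClosure p S
  let Q : Set S := {y | ⁅⁅W, Subgroup.zpowers y⁆, Subgroup.zpowers y⁆ = ⊥}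
  have hne : ∃ W : Subgroup S, omegaOne p (Subgroup.center S) ≤ W ∧
      ∀ (H : Type u) [Group H] (τ : S →* H), IsStableEmbedding p τ → (W.map τ).Normal :=
    ⟨_, omegaCenterThompson_mem hS⟩
  suffices hW : W ≤ W ⊓ Subgroup.centralizer Q from
    fun w hw => (Subgroup.centralizer_le (Set.singleton_subset_iff.2 (show x ∈ Q from hq))) (hW hw).2
  refine sInf_le ⟨?_, fun H _ τ hτ => ?_⟩
  · exact le_inf (omegaCenter_le S) fun z hz y _ =>
      Subgroup.mem_center_iff.1 ((Subgroup.closure_le _).2 (fun t (ht : t ∈ Subgroup.center S ∧ t ^ p = 1) => ht.1) hz) y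
  haveI := hτ.2.1
  haveI hn := stableNormalClosure_map_normal hτ hne
  refine ⟨fun v hv g => ?_⟩
  obtain ⟨w, ⟨hwW, hwQ⟩, rfl⟩ := hv
  obtain ⟨w', hw', e⟩ := hn.conj_mem _ ⟨w, hwW, rfl⟩ g
  refine ⟨w', ⟨hw', fun y hy => hτ.1 ?_⟩, e⟩
  rw [map_mul, map_mul, e]
  set V := W.map τ with hV
  have hyV : ⁅⁅V, Subgroup.zpowers (τ y)⁆, Subgroup.zpowers (τ y)⁆ = ⊥ := by
    rw [← MonoidHom.map_zpowers, hV, ← Subgroup.map_commutator, ← Subgroup.map_commutator,
      show ⁅⁅W, Subgroup.zpowers y⁆, Subgroup.zpowers y⁆ = ⊥ from hy, Subgroup.map_bot]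
  set h := g⁻¹ * τ y * g⁻¹⁻¹
  have hh := quad_conj g⁻¹ hyV
  have hst := hτ.2.2.2.2.2 V (Subgroup.map_mono (stableNormalClosure_le hS)) h hh
  obtain ⟨P, hP⟩ := hτ.2.2.1
  set q := QuotientGroup.mk' (Subgroup.centralizer (V : Set H))
  let P' := P.mapSurjective (QuotientGroup.mk'_surjective (Subgroup.centralizer (V : Set H)))
  have hle : pCore p (H ⧸ Subgroup.centralizer (V : Set H)) ≤ (P' : Subgroup _) := by
    rw [← P'.3 ((CfsgLib.isPGroup_pCore p).to_sup_of_normal_left P'.2) le_sup_right]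
    exact le_sup_left
  obtain ⟨s, hs, es⟩ := hle hst
  rw [SetLike.mem_coe, hP] at hs
  obtain ⟨y', rfl⟩ := hs
  have hy' : y' ∈ Q := by
    have h1 := quad_congr (V := V) (s := τ y') (h := h) es hh
    rw [← MonoidHom.map_zpowers, hV, ← Subgroup.map_commutator, ← Subgroup.map_commutator,
      Subgroup.map_eq_bot_iff_of_injective _ hτ.1] at h1
    exact h1
  have hwy : τ y' * τ w = τ w * τ y' := by rw [← map_mul, ← map_mul, hwQ y' hy']
  set c := h * (τ y')⁻¹
  have hc : c ∈ Subgroup.centralizer (V : Set H) := by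
    have es' : (QuotientGroup.mk (τ y') : H ⧸ Subgroup.centralizer (V : Set H)) = QuotientGroup.mk h := es
    rw [← QuotientGroup.eq_one_iff]
    show QuotientGroup.mk (h * (τ y')⁻¹) = (1 : H ⧸ Subgroup.centralizer (V : Set H))
    rw [QuotientGroup.mk_mul, QuotientGroup.mk_inv, es', mul_inv_cancel]
  have hhw : h * τ w = τ w * h := by
    have e1 : c * τ w = τ w * c := (hc _ ⟨w, hwW, rfl⟩).symm
    calc h * τ w = c * (τ y' * τ w) := by simp only [c]; group
      _ = c * τ w * τ y' := by rw [hwy, ← mul_assoc]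
      _ = τ w * c * τ y' := by rw [e1]
      _ = τ w * h := by simp only [c]; group
  calc τ y * (g * τ w * g⁻¹) = g * (h * τ w) * g⁻¹ := by simp only [h]; group
    _ = g * (τ w * h) * g⁻¹ := by rw [hhw]
    _ = g * τ w * g⁻¹ * τ y := by simp only [h]; group

end CfsgLib.PLocal
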