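import Cfsg.Agent.Lib.ZJ.Replacement
import Cfsg.Agent.Lib.AbelianOffender
import Cfsg.Prelude.Def_PLocal

/-!
The Timmesfeld replacement theorem.
-/

set_option autoImplicit false
set_option linter.unusedSectionVars false

namespace CfsgLib.PLocal

open CfsgLib Cfsg
open scoped commutatorElement

variable {G : Type*} [Group G] [Finite G]

/-- `|B| |C_V(B)|`. -/
noncomputable def measure' (V B : Subgroup G) : ℕ :=
  Nat.card B * Nat.card ↥(V ⊓ Subgroup.centralizer (B : Set G))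

theorem inf_centralizer_normal {A V : Subgroup G} (hab : ⁅A, A⁆ ≤ Subgroup.centralizer (V : Set G))
    {K : Subgroup G} (hK : K ≤ V) :
    A ≤ Subgroup.normalizer ((A ⊓ Subgroup.centralizer (K : Set G) : Subgroup G) : Set G) := by
  have h1 : ∀ a ∈ A, ∀ b ∈ A ⊓ Subgroup.centralizer (K : Set G),
      a * b * a⁻¹ ∈ A ⊓ Subgroup.centralizer (K : Set G) := by
    rintro a ha b ⟨hbA, hbK⟩
    refine ⟨A.mul_mem (A.mul_mem ha hbA) (A.inv_mem ha), ?_⟩
    rw [show a * b * a⁻¹ = ⁅a, b⁆ * b by rw [commutatorElement_def]; group]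
    exact Subgroup.mul_mem _
      (Subgroup.centralizer_le (fun x hx => hK hx) (hab (Subgroup.commutator_mem_commutator ha hbA))) hbK
  intro a ha
  rw [Subgroup.mem_normalizer_iff]
  refine fun x => ⟨h1 a ha x, fun hx => ?_⟩
  have := h1 a⁻¹ (A.inv_mem ha) _ hx
  simpa [mul_assoc] using this

variable {A V : Subgroup G}

/-- One step: the subgroup attached to a single element `u`. -/
theorem timmesfeld_single (hVc : ∀ v ∈ V, ∀ w ∈ V, v * w = w * v)
    (hAV : A ≤ Subgroup.normalizer (V : Set G)) (hab : ⁅A, A⁆ ≤ Subgroup.centralizer (V : Set G))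
    {u : G} (hu : u ∈ V) :
    measure' V A ≤ Nat.card ↥(A ⊓ Subgroup.centralizer
        ((Subgroup.closure {g : G | ∃ a ∈ A, g = ⁅u, a⁆} : Subgroup G) : Set G)) *
      Nat.card ↥(Subgroup.closure {g : G | ∃ a ∈ A, g = ⁅u, a⁆} ⊔ (V ⊓ Subgroup.centralizer (A : Set G))) := by
  classical
  set K := Subgroup.closure {g : G | ∃ a ∈ A, g = ⁅u, a⁆} with hK
  set B := A ⊓ Subgroup.centralizer (K : Set G) with hB
  set C := V ⊓ Subgroup.centralizer (A : Set G) with hC
  set X := K ⊔ C with hX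
  have hVn : ∀ a ∈ A, ∀ v ∈ V, a * v * a⁻¹ ∈ V := fun a ha v hv =>
    (Subgroup.mem_normalizer_iff.1 (hAV ha) v).1 hv
  let e : A → G → G := fun a v => (a : G) * v * (a : G)⁻¹
  have hd : ∀ a : A, ⁅u, (a : G)⁆ = u * e a u⁻¹ := fun a => by
    simp only [e, commutatorElement_def]; group
  have hdX : ∀ a : A, ⁅u, (a : G)⁆ ∈ X := fun a =>
    Subgroup.mem_sup_left (Subgroup.subset_closure ⟨a, a.2, rfl⟩)
  have key : ∀ a a' : A, (⁅u, (a : G)⁆)⁻¹ * ⁅u, (a' : G)⁆ ∈ C → ((a : G)⁻¹ * a') ∈ B := by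
    intro a a' hm
    have hu' := V.inv_mem hu
    set d := (⁅u, (a : G)⁆)⁻¹ * ⁅u, (a' : G)⁆ with hdd
    have hde : e a' u⁻¹ = e a u⁻¹ * d := by
      rw [hdd, hd a, hd a']; group
    refine ⟨A.mul_mem (A.inv_mem a.2) a'.2, ?_⟩
    show ((a : G)⁻¹ * a') ∈ Subgroup.centralizer (K : Set G)
    rw [hK, Subgroup.centralizer_closure]
    rintro _ ⟨b, hb, rfl⟩
    -- `a` and `a'` act equally on `⁅u, b⁆`
    have hswap : ∀ c : A, e c (e ⟨b, hb⟩ u⁻¹) = e ⟨b, hb⟩ (e c u⁻¹) := by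
      intro c
      have hz := hab (Subgroup.commutator_mem_commutator c.2 hb)
      have hzv := (hz _ (hVn _ hb _ (hVn _ c.2 _ hu'))).symm
      calc e c (e ⟨b, hb⟩ u⁻¹) = ⁅(c : G), b⁆ * e ⟨b, hb⟩ (e c u⁻¹) * (⁅(c : G), b⁆)⁻¹ := by
            simp only [e, commutatorElement_def]; group
        _ = _ := by
            simp only [e] at hzv ⊢
            rw [hzv, mul_inv_cancel_right]
    have hinv : ∀ c : A, e c u = (e c u⁻¹)⁻¹ := fun c => by simp only [e]; group
    have hdb : e ⟨b, hb⟩ d = d := by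
      show b * d * b⁻¹ = d
      rw [hm.2 b hb, mul_inv_cancel_right]
    have hmul : ∀ (c : A) (v w : G), e c (v * w) = e c v * e c w := fun c v w => by simp only [e]; group
    have heq : e a' ⁅u, b⁆ = e a ⁅u, b⁆ := by
      rw [hd ⟨b, hb⟩, hmul a' u, hmul a u, hswap a', hswap a, hde, hmul ⟨b, hb⟩, hdb, hinv a', hinv a, hde]
      have h1 : e a u⁻¹ ∈ V := hVn _ a.2 _ hu'
      have h2 : e ⟨b, hb⟩ (e a u⁻¹) ∈ V := hVn _ hb _ h1
      calc (e a u⁻¹ * d)⁻¹ * (e ⟨b, hb⟩ (e a u⁻¹) * d)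
          = d⁻¹ * ((e a u⁻¹)⁻¹ * e ⟨b, hb⟩ (e a u⁻¹)) * d := by group
        _ = _ := by
          rw [hVc _ (V.inv_mem hm.1) _ (V.mul_mem (V.inv_mem h1) h2), inv_mul_cancel_right]
    calc ⁅u, b⁆ * ((a : G)⁻¹ * a') = (a : G)⁻¹ * e a ⁅u, b⁆ * a' := by simp only [e]; group
      _ = (a : G)⁻¹ * e a' ⁅u, b⁆ * a' := by rw [heq]
      _ = _ := by simp only [e]; group
  have hBA : B ≤ A := inf_le_left
  have hCX : C ≤ X := le_sup_right
  have hidx : B.relIndex A ≤ C.relIndex X := by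
    show Nat.card (A ⧸ B.subgroupOf A) ≤ Nat.card (X ⧸ C.subgroupOf X)
    refine Nat.card_le_card_of_injective
      (fun q : A ⧸ B.subgroupOf A => (QuotientGroup.mk ⟨⁅u, (q.out : G)⁆, hdX _⟩ : X ⧸ C.subgroupOf X)) ?_
    intro q q' hq
    have h := QuotientGroup.eq.1 hq
    rw [Subgroup.mem_subgroupOf] at h
    have h2 := key q.out q'.out h
    rw [← QuotientGroup.out_eq' q, ← QuotientGroup.out_eq' q', QuotientGroup.eq]
    exact h2
  show Nat.card A * Nat.card C ≤ Nat.card B * Nat.card X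
  rw [← Subgroup.relIndex_mul_relIndex ⊥ B A bot_le hBA |>.trans (Subgroup.relIndex_bot_left A),
    ← Subgroup.relIndex_mul_relIndex ⊥ C X bot_le hCX |>.trans (Subgroup.relIndex_bot_left X),
    Subgroup.relIndex_bot_left, Subgroup.relIndex_bot_left]
  calc Nat.card B * B.relIndex A * Nat.card C ≤ Nat.card B * C.relIndex X * Nat.card C :=
        Nat.mul_le_mul_right _ (Nat.mul_le_mul_left _ hidx)
    _ = _ := by ring

/-- Timmesfeld replacement in the absence of a larger offender. -/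
theorem timmesfeld (hVc : ∀ v ∈ V, ∀ w ∈ V, v * w = w * v)
    (hAV : A ≤ Subgroup.normalizer (V : Set G)) (hab : ⁅A, A⁆ ≤ Subgroup.centralizer (V : Set G))
    (hno : ∀ B : Subgroup G, B ≤ A → measure' V B ≤ measure' V A) {U : Subgroup G} (hU : U ≤ V) :
    V ⊓ Subgroup.centralizer ((A ⊓ Subgroup.centralizer ((⁅U, A⁆ : Subgroup G) : Set G) : Subgroup G) : Set G) =
        ⁅U, A⁆ ⊔ (V ⊓ Subgroup.centralizer (A : Set G)) ∧
      measure' V (A ⊓ Subgroup.centralizer ((⁅U, A⁆ : Subgroup G) : Set G)) = measure' V A := by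
  classical
  set C := V ⊓ Subgroup.centralizer (A : Set G)
  let Ks : Set G → Subgroup G := fun s => Subgroup.closure {g : G | ∃ u ∈ s, ∃ a ∈ A, g = ⁅u, a⁆}
  let Bs : Set G → Subgroup G := fun s => A ⊓ Subgroup.centralizer (Ks s : Set G)
  have hKV : ∀ s : Set G, s ⊆ V → Ks s ≤ V := fun s hs => (Subgroup.closure_le _).2 (by
    rintro _ ⟨u, hu, a, ha, rfl⟩
    rw [commutatorElement_def, mul_assoc u, mul_assoc u]
    exact V.mul_mem (hs hu) ((Subgroup.mem_normalizer_iff.1 (hAV ha) _).1 (V.inv_mem (hs hu))))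
  have hXC : ∀ s : Set G, s ⊆ V → Ks s ⊔ C ≤ V ⊓ Subgroup.centralizer (Bs s : Set G) := fun s hs =>
    sup_le (le_inf (hKV s hs) fun x hx b hb => (hb.2 x hx).symm)
      (inf_le_inf_left _ (Subgroup.centralizer_le fun _ hx => hx.1))
  -- joining two such subgroups
  have hjoin : ∀ s t : Set G, s ⊆ V → t ⊆ V → measure' V A ≤ Nat.card (Bs s) * Nat.card ↥(Ks s ⊔ C) →
      measure' V A ≤ Nat.card (Bs t) * Nat.card ↥(Ks t ⊔ C) →
      measure' V A ≤ Nat.card (Bs (s ∪ t)) * Nat.card ↥(Ks (s ∪ t) ⊔ C) := by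
    intro s t hs ht h1 h2
    have hKst : Ks (s ∪ t) = Ks s ⊔ Ks t := by
      simp only [Ks]
      rw [← Subgroup.closure_union]
      congr 1
      ext g
      simp only [Set.mem_setOf_eq, Set.mem_union]
      grind
    have hBst : Bs (s ∪ t) = Bs s ⊓ Bs t := by
      refine le_antisymm (le_inf (inf_le_inf_left _ (Subgroup.centralizer_le ?_))
        (inf_le_inf_left _ (Subgroup.centralizer_le ?_))) fun x hx => ⟨hx.1.1, ?_⟩
      · rw [hKst]; exact fun g hg => Subgroup.mem_sup_left hg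
      · rw [hKst]; exact fun g hg => Subgroup.mem_sup_right hg
      · show x ∈ Subgroup.centralizer (Ks (s ∪ t) : Set G)
        have hle : Ks (s ∪ t) ≤ Subgroup.centralizer ({x} : Set G) := by
          rw [hKst]
          exact sup_le (fun g hg => Subgroup.mem_centralizer_singleton_iff.2 (hx.1.2 g hg))
            (fun g hg => Subgroup.mem_centralizer_singleton_iff.2 (hx.2.2 g hg))
        exact fun g hg => Subgroup.mem_centralizer_singleton_iff.1 (hle hg)
    have hBn : Bs t ≤ Subgroup.normalizer (Bs s : Set G) :=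
      inf_le_left.trans (inf_centralizer_normal hab (hKV s hs))
    have hcB := ZJ.card_mul_eq_of_le_normalizer hBn
    have hXV : ∀ r : Set G, r ⊆ V → Ks r ⊔ C ≤ V := fun r hr => sup_le (hKV r hr) inf_le_left
    have hXn : Ks t ⊔ C ≤ Subgroup.normalizer ((Ks s ⊔ C : Subgroup G) : Set G) := fun x hx =>
      Subgroup.mem_normalizer_iff.2 fun y => by
        constructor
        · intro hy; rwa [hVc x (hXV t ht hx) y (hXV s hs hy), mul_inv_cancel_right]
        · intro hy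
          have hxV := hXV t ht hx
          have hyV : y ∈ V := by
            have := V.mul_mem (V.mul_mem (V.inv_mem hxV) (hXV s hs hy)) hxV
            simpa [mul_assoc] using this
          rwa [hVc x hxV y hyV, mul_inv_cancel_right] at hy
    have hcX := ZJ.card_mul_eq_of_le_normalizer hXn
    have hsup : Ks (s ∪ t) ⊔ C = (Ks s ⊔ C) ⊔ (Ks t ⊔ C) := by
      rw [hKst, sup_sup_sup_comm, sup_idem]
    rw [hsup, hBst]
    set m := measure' V A
    have h3 : Nat.card ↥(Bs s ⊔ Bs t) * Nat.card ↥((Ks s ⊔ C) ⊓ (Ks t ⊔ C)) ≤ m := by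
      refine le_trans (Nat.mul_le_mul_left _ (Subgroup.card_le_of_le ?_))
        (hno (Bs s ⊔ Bs t) (sup_le inf_le_left inf_le_left))
      refine le_inf (inf_le_left.trans (hXV s hs)) fun x hx b hb => ?_
      have hle : Bs s ⊔ Bs t ≤ Subgroup.centralizer ({x} : Set G) :=
        sup_le (fun g hg => Subgroup.mem_centralizer_singleton_iff.2 ((hXC s hs hx.1).2 g hg))
          (fun g hg => Subgroup.mem_centralizer_singleton_iff.2 ((hXC t ht hx.2).2 g hg))
      exact Subgroup.mem_centralizer_singleton_iff.1 (hle hb)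
    have hm : 0 < m := Nat.mul_pos Nat.card_pos Nat.card_pos
    refine Nat.le_of_mul_le_mul_left ?_ hm
    calc m * m ≤ (Nat.card (Bs s) * Nat.card ↥(Ks s ⊔ C)) * (Nat.card (Bs t) * Nat.card ↥(Ks t ⊔ C)) :=
          Nat.mul_le_mul h1 h2
      _ = (Nat.card (Bs s) * Nat.card (Bs t)) * (Nat.card ↥(Ks s ⊔ C) * Nat.card ↥(Ks t ⊔ C)) := by ring
      _ = (Nat.card ↥(Bs s ⊔ Bs t) * Nat.card ↥((Ks s ⊔ C) ⊓ (Ks t ⊔ C))) *
          (Nat.card ↥(Bs s ⊓ Bs t) * Nat.card ↥((Ks s ⊔ C) ⊔ (Ks t ⊔ C))) := by rw [hcB, hcX]; ring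
      _ ≤ _ := Nat.mul_le_mul_right _ h3
  have hall : ∀ s : Set G, s.Finite → s ⊆ V → measure' V A ≤ Nat.card (Bs s) * Nat.card ↥(Ks s ⊔ C) := by
    intro s hs
    induction s, hs using Set.Finite.induction_on with
    | empty =>
      intro _
      have hK0 : Ks ∅ = ⊥ := by
        simp only [Ks]
        rw [Subgroup.closure_eq_bot_iff]
        rintro g ⟨u, hu, -⟩
        exact hu.elim
      have hB0 : Bs ∅ = A := inf_eq_left.2 fun a _ g hg => by
        rw [SetLike.mem_coe, hK0, Subgroup.mem_bot] at hg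
        rw [hg, one_mul, mul_one]
      rw [hB0, hK0, bot_sup_eq]
      exact le_rfl
    | @insert u s _ _ ih =>
      intro hus
      rw [Set.insert_eq]
      refine hjoin _ _ (Set.singleton_subset_iff.2 (hus (Set.mem_insert u s)))
        ((Set.subset_insert u s).trans hus) ?_ (ih ((Set.subset_insert u s).trans hus))
      have hKu : Ks {u} = Subgroup.closure {g : G | ∃ a ∈ A, g = ⁅u, a⁆} := by
        simp only [Ks, Set.mem_singleton_iff, exists_eq_left]
      simp only [Bs]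
      rw [hKu]
      exact timmesfeld_single hVc hAV hab (hus (Set.mem_insert u s))
  have hKU : Ks U = ⁅U, A⁆ := by
    rw [Subgroup.commutator_def]
    simp only [Ks]
    congr 1
    ext g
    simp only [Set.mem_setOf_eq, SetLike.mem_coe]
    grind
  have h := hall U (Set.toFinite _) hU
  have hle := hXC U hU
  simp only [Bs] at h hle
  rw [hKU] at h hle
  have hB := hno _ (inf_le_left : A ⊓ Subgroup.centralizer ((⁅U, A⁆ : Subgroup G) : Set G) ≤ A)
  have hc := Nat.mul_le_mul_left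
    (Nat.card ↥(A ⊓ Subgroup.centralizer ((⁅U, A⁆ : Subgroup G) : Set G))) (Subgroup.card_le_of_le hle)
  refine ⟨(Subgroup.eq_of_le_of_card_ge hle ?_).symm, le_antisymm hB (h.trans hc)⟩
  exact Nat.le_of_mul_le_mul_left (le_trans hB h) Nat.card_pos

/-- A nilpotent action: `V = [V, A] C_V(A)` forces trivial action. -/
theorem commutator_eq_bot_of_sup {p : ℕ} [Fact p.Prime] (hVp : IsPGroup p V)
    (hVc : ∀ v ∈ V, ∀ w ∈ V, v * w = w * v) (hAV : A ≤ Subgroup.normalizer (V : Set G))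
    (hpow : ∀ a ∈ A, ∃ k : ℕ, a ^ p ^ k ∈ Subgroup.centralizer (V : Set G))
    (h : V ≤ ⁅V, A⁆ ⊔ (V ⊓ Subgroup.centralizer (A : Set G))) : ⁅V, A⁆ = ⊥ := by
  classical
  obtain ⟨P0⟩ : Nonempty (Sylow p A) := inferInstance
  set P := (P0 : Subgroup A).map A.subtype
  have hPA : P ≤ A := Subgroup.map_subtype_le _
  have hnA : ((A ⊓ Subgroup.centralizer (V : Set G)).subgroupOf A).Normal :=
    ⟨fun x hx a => by
      refine ⟨(a * x * a⁻¹).2, fun v hv => ?_⟩
      have hv' := (Subgroup.mem_normalizer_iff.1 (hAV (A.inv_mem a.2)) v).1 hv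
      have := congrArg (fun z => (a : G) * z * (a : G)⁻¹) (hx.2 _ hv')
      simpa [mul_assoc] using this⟩
  have hdec : ∀ a ∈ A, ∃ s ∈ P, ∀ v ∈ V, ⁅v, a⁆ = ⁅v, s⁆ := by
    set N := (A ⊓ Subgroup.centralizer (V : Set G)).subgroupOf A
    have hq : IsPGroup p (A ⧸ N) := by
      intro q
      obtain ⟨a, rfl⟩ := QuotientGroup.mk_surjective q
      obtain ⟨k, hk⟩ := hpow a a.2
      exact ⟨k, (QuotientGroup.eq_one_iff _).2 ⟨(a ^ p ^ k).2, by simpa using hk⟩⟩
    let Q := P0.mapSurjective (QuotientGroup.mk'_surjective N)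
    have hQ : (Q : Subgroup (A ⧸ N)) = ⊤ :=
      (Q.3 (hq.to_subgroup ⊤) le_top).symm
    intro a ha
    obtain ⟨s, hs, e⟩ : (QuotientGroup.mk' N ⟨a, ha⟩) ∈ (Q : Subgroup (A ⧸ N)) := hQ ▸ Subgroup.mem_top _
    refine ⟨s, ⟨s, hs, rfl⟩, fun v hv => ?_⟩
    have hz : (s : G)⁻¹ * a ∈ Subgroup.centralizer (V : Set G) :=
      (QuotientGroup.eq.1 (show (QuotientGroup.mk s : A ⧸ N) = QuotientGroup.mk ⟨a, ha⟩ from e)).2
    have := hz _ (V.inv_mem hv)
    calc ⁅v, a⁆ = v * (s : G) * (((s : G)⁻¹ * a) * v⁻¹) * ((s : G)⁻¹ * a)⁻¹ * (s : G)⁻¹ := by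
          rw [commutatorElement_def]; group
      _ = _ := by rw [← this, commutatorElement_def]; group
  have hKV : ⁅V, A⁆ ≤ V := Subgroup.commutator_le.2 fun v hv a ha => by
    rw [commutatorElement_def, mul_assoc v, mul_assoc v]
    exact V.mul_mem hv ((Subgroup.mem_normalizer_iff.1 (hAV ha) _).1 (V.inv_mem hv))
  refine AbelianOffender.eq_bot_of_le_commutator (B := P) (P0.2.map A.subtype) hVp (hPA.trans hAV) hKV ?_
  rw [Subgroup.commutator_comm P ⁅V, A⁆]
  refine Subgroup.commutator_le.2 fun v hv a ha => ?_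
  have hv' := h hv
  rw [← SetLike.mem_coe, Subgroup.coe_mul_of_left_le_normalizer_right _ _ ?_] at hv'
  · obtain ⟨k, hk, c, hc, rfl⟩ := hv'
    obtain ⟨s, hs, es⟩ := hdec a ha
    have e : ⁅k * c, a⁆ = ⁅k, a⁆ := by
      have := hc.2 a ha
      rw [commutatorElement_def, commutatorElement_def]
      calc k * c * a * (k * c)⁻¹ * a⁻¹ = k * (c * a) * c⁻¹ * k⁻¹ * a⁻¹ := by group
        _ = _ := by rw [← this]; group
    rw [e, es k (hKV hk)]
    exact Subgroup.commutator_mem_commutator hk hs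
  · intro x hx
    refine Subgroup.mem_normalizer_iff.2 fun y => ⟨fun hy => ?_, fun hy => ?_⟩
    · rwa [hVc x (hKV hx) y hy.1, mul_inv_cancel_right]
    · have hyV : y ∈ V := by
        have := V.mul_mem (V.mul_mem (V.inv_mem (hKV hx)) hy.1) (hKV hx)
        simpa [mul_assoc] using this
      rwa [hVc x (hKV hx) y hyV, mul_inv_cancel_right] at hy

end CfsgLib.PLocal
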